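import Mathlib
import Cfsg.Agent.Lib.Helper40.StarCore
import Cfsg.Agent.S0752

set_option autoImplicit false
set_option linter.unusedSectionVars false

namespace Cfsg.Agent.Lib.Helper40.SympConj

open Matrix

section sadj
variable {F : Type*} [Field F] {m : ℕ}

/-- The symplectic adjoint `J⁻¹ Mᵀ J`. -/
def sadj (M : Matrix (Fin m ⊕ Fin m) (Fin m ⊕ Fin m) F) : Matrix (Fin m ⊕ Fin m) (Fin m ⊕ Fin m) F :=
  (-J (Fin m) F) * Mᵀ * J (Fin m) F

theorem J_mul_neg_J : J (Fin m) F * (-J (Fin m) F) = 1 := by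
  rw [mul_neg, J_squared, neg_neg]

theorem neg_J_mul_J : (-J (Fin m) F) * J (Fin m) F = 1 := by
  rw [neg_mul, J_squared, neg_neg]

theorem sadj_mul (M N : Matrix (Fin m ⊕ Fin m) (Fin m ⊕ Fin m) F) :
    sadj (M * N) = sadj N * sadj M := by
  unfold sadj
  rw [Matrix.transpose_mul]
  have h : (-J (Fin m) F) * Nᵀ * J (Fin m) F * ((-J (Fin m) F) * Mᵀ * J (Fin m) F) =
      (-J (Fin m) F) * Nᵀ * (J (Fin m) F * (-J (Fin m) F)) * Mᵀ * J (Fin m) F := by
    simp only [Matrix.mul_assoc]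
  rw [h, J_mul_neg_J, Matrix.mul_one]
  simp only [Matrix.mul_assoc]

theorem sadj_add (M N : Matrix (Fin m ⊕ Fin m) (Fin m ⊕ Fin m) F) :
    sadj (M + N) = sadj M + sadj N := by
  unfold sadj
  rw [Matrix.transpose_add, Matrix.mul_add, Matrix.add_mul]

theorem sadj_one : sadj (1 : Matrix (Fin m ⊕ Fin m) (Fin m ⊕ Fin m) F) = 1 := by
  unfold sadj
  rw [Matrix.transpose_one, Matrix.mul_one, neg_J_mul_J]

theorem sadj_sadj (M : Matrix (Fin m ⊕ Fin m) (Fin m ⊕ Fin m) F) : sadj (sadj M) = M := by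
  unfold sadj
  rw [Matrix.transpose_mul, Matrix.transpose_mul, Matrix.transpose_transpose, Matrix.transpose_neg,
    J_transpose, neg_neg]
  have h : (-J (Fin m) F) * (-J (Fin m) F * (M * J (Fin m) F)) * J (Fin m) F =
      ((-J (Fin m) F) * (-J (Fin m) F)) * M * (J (Fin m) F * J (Fin m) F) := by
    simp only [Matrix.mul_assoc]
  rw [h, J_squared, neg_mul_neg, J_squared]
  simp

theorem sadj_smul (r : F) (M : Matrix (Fin m ⊕ Fin m) (Fin m ⊕ Fin m) F) :
    sadj (r • M) = r • sadj M := by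
  unfold sadj
  rw [Matrix.transpose_smul, Matrix.mul_smul, Matrix.smul_mul]

theorem sadj_algebraMap (r : F) :
    sadj (algebraMap F (Matrix (Fin m ⊕ Fin m) (Fin m ⊕ Fin m) F) r) =
      algebraMap F (Matrix (Fin m ⊕ Fin m) (Fin m ⊕ Fin m) F) r := by
  rw [Algebra.algebraMap_eq_smul_one, sadj_smul, sadj_one]

theorem sadj_neg (M : Matrix (Fin m ⊕ Fin m) (Fin m ⊕ Fin m) F) : sadj (-M) = -sadj M := by
  unfold sadj
  rw [Matrix.transpose_neg, Matrix.mul_neg, Matrix.neg_mul]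

theorem sadj_sub (M N : Matrix (Fin m ⊕ Fin m) (Fin m ⊕ Fin m) F) :
    sadj (M - N) = sadj M - sadj N := by
  rw [sub_eq_add_neg, sadj_add, sadj_neg, ← sub_eq_add_neg]

theorem sadj_zero : sadj (0 : Matrix (Fin m ⊕ Fin m) (Fin m ⊕ Fin m) F) = 0 := by
  unfold sadj
  simp

theorem sadj_pow (M : Matrix (Fin m ⊕ Fin m) (Fin m ⊕ Fin m) F) (k : ℕ) :
    sadj (M ^ k) = sadj M ^ k := by
  induction k with
  | zero => rw [pow_zero, pow_zero, sadj_one]
  | succ k ih => rw [pow_succ, sadj_mul, ih, pow_succ']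

theorem mem_symp_iff (A : Matrix (Fin m ⊕ Fin m) (Fin m ⊕ Fin m) F) :
    A ∈ Matrix.symplecticGroup (Fin m) F ↔ sadj A * A = 1 := by
  rw [SymplecticGroup.mem_iff']
  unfold sadj
  constructor
  · intro h
    rw [Matrix.mul_assoc, Matrix.mul_assoc, ← Matrix.mul_assoc Aᵀ, h, neg_J_mul_J]
  · intro h
    have h1 : J (Fin m) F * ((-J (Fin m) F) * Aᵀ * J (Fin m) F * A) = J (Fin m) F := by
      rw [h, Matrix.mul_one]
    have h2 : J (Fin m) F * ((-J (Fin m) F) * Aᵀ * J (Fin m) F * A) =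
        (J (Fin m) F * (-J (Fin m) F)) * (Aᵀ * J (Fin m) F * A) := by
      simp only [Matrix.mul_assoc]
    rw [h2, J_mul_neg_J, Matrix.one_mul] at h1
    exact h1

/-- The adjoint relation for the symplectic form `u ⬝ᵥ J *ᵥ v`. -/
theorem adjoint_rel (M : Matrix (Fin m ⊕ Fin m) (Fin m ⊕ Fin m) F) (u v : Fin m ⊕ Fin m → F) :
    (M *ᵥ u) ⬝ᵥ (J (Fin m) F *ᵥ v) = u ⬝ᵥ (J (Fin m) F *ᵥ (sadj M *ᵥ v)) := by
  have h : J (Fin m) F * sadj M = Mᵀ * J (Fin m) F := by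
    unfold sadj
    rw [← Matrix.mul_assoc, ← Matrix.mul_assoc, J_mul_neg_J, Matrix.one_mul]
  rw [Matrix.mulVec_mulVec, h, ← Matrix.mulVec_mulVec, dotProduct_comm, Matrix.dotProduct_mulVec,
    ← Matrix.mulVec_transpose, dotProduct_comm]

theorem J_alt (v : Fin m ⊕ Fin m → F) : v ⬝ᵥ (J (Fin m) F *ᵥ v) = 0 := by
  rw [Matrix.J, Matrix.fromBlocks_mulVec]
  simp only [dotProduct, Fintype.sum_sum_type, Sum.elim_inl, Sum.elim_inr, Matrix.zero_mulVec,
    Matrix.neg_mulVec, Matrix.one_mulVec, zero_add, add_zero, Pi.neg_apply, Function.comp_apply]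
  rw [← Finset.sum_add_distrib]
  apply Finset.sum_eq_zero
  intro i _
  ring

theorem eq_zero_of_J (u : Fin m ⊕ Fin m → F)
    (h : ∀ w, u ⬝ᵥ (J (Fin m) F *ᵥ w) = 0) : u = 0 := by
  have h1 : u ᵥ* J (Fin m) F = 0 := by
    apply dotProduct_eq_zero
    intro w
    rw [← Matrix.dotProduct_mulVec]
    exact h w
  have h2 : u = (u ᵥ* J (Fin m) F) ᵥ* (-J (Fin m) F) := by
    rw [Matrix.vecMul_vecMul, J_mul_neg_J, Matrix.vecMul_one]
  rw [h2, h1, Matrix.zero_vecMul]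

theorem eq_of_form (X Y : Matrix (Fin m ⊕ Fin m) (Fin m ⊕ Fin m) F)
    (h : ∀ u w, u ⬝ᵥ (J (Fin m) F *ᵥ (X *ᵥ w)) = u ⬝ᵥ (J (Fin m) F *ᵥ (Y *ᵥ w))) : X = Y := by
  apply Matrix.toLin'.injective
  apply LinearMap.ext
  intro w
  rw [Matrix.toLin'_apply, Matrix.toLin'_apply, ← sub_eq_zero]
  have h1 : J (Fin m) F *ᵥ (X *ᵥ w - Y *ᵥ w) = 0 := by
    apply dotProduct_eq_zero
    intro u
    rw [dotProduct_comm, Matrix.mulVec_sub, dotProduct_sub, h u w, sub_self]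
  have h2 : X *ᵥ w - Y *ᵥ w = (-J (Fin m) F) *ᵥ (J (Fin m) F *ᵥ (X *ᵥ w - Y *ᵥ w)) := by
    rw [Matrix.mulVec_mulVec, neg_J_mul_J, Matrix.one_mulVec]
  rw [h2, h1, Matrix.mulVec_zero]

end sadj

section proj
variable {F : Type*} [Field F] {E : Type*} [Ring E] [Algebra F E]

/-- The averaging projection onto the fixed points of `T` (when `T ^ M = 1`). -/
noncomputable def Pr (T : E) (M : ℕ) : E := ((M : F)⁻¹) • ∑ i ∈ Finset.range M, T ^ i

/-- A witness for `1 - Pr T M = (1 - T) * Yr T M`. -/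
noncomputable def Yr (T : E) (M : ℕ) : E :=
  ((M : F)⁻¹) • ∑ i ∈ Finset.range M, ∑ j ∈ Finset.range i, T ^ j

theorem T_mul_Pr (T : E) (M : ℕ) (hT : T ^ M = 1) : T * Pr (F := F) T M = Pr (F := F) T M := by
  unfold Pr
  have h := mul_geom_sum T M
  rw [hT, sub_self, sub_mul, one_mul, sub_eq_zero] at h
  rw [mul_smul_comm, h]

theorem Pr_mul_T (T : E) (M : ℕ) (hT : T ^ M = 1) : Pr (F := F) T M * T = Pr (F := F) T M := by
  unfold Pr
  have h := geom_sum_mul T M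
  rw [hT, sub_self, mul_sub, mul_one, sub_eq_zero] at h
  rw [smul_mul_assoc, h]

theorem pow_mul_of_mul (T P : E) (h : T * P = P) (i : ℕ) : T ^ i * P = P := by
  induction i with
  | zero => rw [pow_zero, one_mul]
  | succ i ih => rw [pow_succ, mul_assoc, h, ih]

theorem mul_pow_of_mul (T Q : E) (h : Q * T = Q) (i : ℕ) : Q * T ^ i = Q := by
  induction i with
  | zero => rw [pow_zero, mul_one]
  | succ i ih => rw [pow_succ, ← mul_assoc, ih, h]

theorem mul_Pr_of_mul (T Q : E) (M : ℕ) (hM : (M : F) ≠ 0) (h : Q * T = Q) :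
    Q * Pr (F := F) T M = Q := by
  unfold Pr
  rw [mul_smul_comm, Finset.mul_sum]
  rw [Finset.sum_congr rfl (fun i _ => mul_pow_of_mul T Q h i), Finset.sum_const, Finset.card_range,
    ← Nat.cast_smul_eq_nsmul F, smul_smul, inv_mul_cancel₀ hM, one_smul]

theorem Pr_idem (T : E) (M : ℕ) (hM : (M : F) ≠ 0) (hT : T ^ M = 1) :
    Pr (F := F) T M * Pr (F := F) T M = Pr (F := F) T M :=
  mul_Pr_of_mul T _ M hM (Pr_mul_T T M hT)

theorem one_sub_Pr (T : E) (M : ℕ) (hM : (M : F) ≠ 0) :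
    1 - Pr (F := F) T M = (1 - T) * Yr (F := F) T M := by
  unfold Pr Yr
  rw [mul_smul_comm, Finset.mul_sum]
  have h1 : ∀ i ∈ Finset.range M, (1 - T) * ∑ j ∈ Finset.range i, T ^ j = 1 - T ^ i := by
    intro i _
    have h := mul_geom_sum T i
    rw [← neg_sub, neg_mul, h, neg_sub]
  rw [Finset.sum_congr rfl h1, Finset.sum_sub_distrib, Finset.sum_const, Finset.card_range,
    smul_sub, ← Nat.cast_smul_eq_nsmul F, smul_smul, inv_mul_cancel₀ hM, one_smul]

theorem commute_Pr (T X : E) (M : ℕ) (h : Commute X T) : Commute X (Pr (F := F) T M) := by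
  unfold Pr
  exact (Commute.sum_right _ _ _ (fun i _ => h.pow_right i)).smul_right _

theorem commute_Yr (T X : E) (M : ℕ) (h : Commute X T) : Commute X (Yr (F := F) T M) := by
  unfold Yr
  exact (Commute.sum_right _ _ _ (fun i _ =>
    Commute.sum_right _ _ _ (fun j _ => h.pow_right j))).smul_right _

theorem Pr_mem (T : E) (M : ℕ) (S : Subring E) (hT : T ∈ S)
    (hS : ∀ r : F, algebraMap F E r ∈ S) : Pr (F := F) T M ∈ S := by
  unfold Pr
  rw [Algebra.smul_def]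
  exact S.mul_mem (hS _) (S.sum_mem (fun i _ => S.pow_mem hT i))

theorem Yr_mem (T : E) (M : ℕ) (S : Subring E) (hT : T ∈ S)
    (hS : ∀ r : F, algebraMap F E r ∈ S) : Yr (F := F) T M ∈ S := by
  unfold Yr
  rw [Algebra.smul_def]
  exact S.mul_mem (hS _) (S.sum_mem (fun i _ => S.sum_mem (fun j _ => S.pow_mem hT j)))

/-- The averaging projection is fixed by any anti-involution inverting `T`. -/
theorem st_Pr (st : E → E) (h_mul : ∀ x y, st (x * y) = st y * st x) (h_inv : ∀ x, st (st x) = x)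
    (T : E) (M : ℕ) (hM : (M : F) ≠ 0) (hT : T ^ M = 1) (hst : st T * T = 1) :
    st (Pr (F := F) T M) = Pr (F := F) T M := by
  obtain ⟨P, hP⟩ : ∃ P, P = Pr (F := F) T M := ⟨_, rfl⟩
  rw [← hP]
  have h1 : T * P = P := by rw [hP]; exact T_mul_Pr T M hT
  have h2 : st P * T = st P := by
    have h3 : st P = st P * st T := by rw [← h_mul, h1]
    calc st P * T = st P * st T * T := by rw [← h3]
      _ = st P := by rw [mul_assoc, hst, mul_one]
  have h4 : st P * P = st P := by rw [hP, mul_Pr_of_mul T _ M hM (by rw [← hP]; exact h2)]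
  have h5 : st P * P = P := by
    have h6 := congrArg st h4
    rw [h_mul, h_inv] at h6
    exact h6
  rw [← h4, h5]

end proj

section alt
variable {F : Type*} [Field F]

/-- Two non-degenerate alternating forms on the same finite-dimensional space are isometric. -/
theorem alt_iso {U : Type*} [AddCommGroup U] [Module F U] [FiniteDimensional F U]
    (B₁ B₂ : LinearMap.BilinForm F U) (h₁ : B₁.IsAlt) (h₂ : B₂.IsAlt)
    (n₁ : ∀ u : U, (∀ v : U, B₁ u v = 0) → u = 0) (n₂ : ∀ u : U, (∀ v : U, B₂ u v = 0) → u = 0) :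
    ∃ c : U ≃ₗ[F] U, ∀ u v : U, B₂ u v = B₁ (c u) (c v) := by
  classical
  obtain ⟨m₁, k₁, b₁, h11, h12, h13, h14⟩ := Cfsg.Agent.S0752.result B₁ h₁
  obtain ⟨m₂, k₂, b₂, h21, h22, h23, h24⟩ := Cfsg.Agent.S0752.result B₂ h₂
  have hk₁ : k₁ = 0 := by
    by_contra hk
    obtain ⟨k, rfl⟩ := Nat.exists_eq_succ_of_ne_zero hk
    exact b₁.ne_zero (Sum.inr 0) (n₁ _ (fun v => h14 0 v))
  have hk₂ : k₂ = 0 := by
    by_contra hk
    obtain ⟨k, rfl⟩ := Nat.exists_eq_succ_of_ne_zero hk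
    exact b₂.ne_zero (Sum.inr 0) (n₂ _ (fun v => h24 0 v))
  subst hk₁ hk₂
  have hm : m₁ = m₂ := by
    have e1 := Module.finrank_eq_card_basis b₁
    have e2 := Module.finrank_eq_card_basis b₂
    rw [e1] at e2
    simp only [Fintype.card_sum, Fintype.card_fin] at e2
    omega
  subst hm
  refine ⟨b₂.equiv b₁ (Equiv.refl _), ?_⟩
  have key : B₂ = B₁.compl₁₂ (b₂.equiv b₁ (Equiv.refl _)).toLinearMap
      (b₂.equiv b₁ (Equiv.refl _)).toLinearMap := by
    apply LinearMap.ext_basis b₂ b₂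
    intro i j
    rw [LinearMap.compl₁₂_apply]
    show B₂ (b₂ i) (b₂ j) = B₁ ((b₂.equiv b₁ (Equiv.refl _)) (b₂ i)) ((b₂.equiv b₁ (Equiv.refl _)) (b₂ j))
    rw [Module.Basis.equiv_apply, Module.Basis.equiv_apply, Equiv.refl_apply, Equiv.refl_apply]
    rcases i with (i | i) | i
    · rcases j with (j | j) | j
      · rw [h12, h22]
      · rw [h11, h21]
      · exact Fin.elim0 j
    · rcases j with (j | j) | j
      · rw [← h₁.neg_eq, ← h₂.neg_eq, h11, h21]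
      · rw [h13, h23]
      · exact Fin.elim0 j
    · exact Fin.elim0 i
  intro u v
  conv_lhs => rw [key]
  rw [LinearMap.compl₁₂_apply]
  rfl

variable {m : ℕ}

/-- The part of Wall's argument on an eigenspace for `±1`: classification of alternating
forms gives `c` supported on the idempotent `e` with `sadj c * c = a * e`. -/
theorem alt_part (e a : Matrix (Fin m ⊕ Fin m) (Fin m ⊕ Fin m) F)
    (hee : e * e = e) (hse : sadj e = e) (hae : a * e = e * a) (hau : IsUnit a)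
    (halt : ∀ v, v ⬝ᵥ ((J (Fin m) F * a) *ᵥ v) = 0) :
    ∃ c, e * c = c ∧ c * e = c ∧ sadj c * c = a * e := by
  classical
  obtain ⟨U, hU⟩ : ∃ U : Submodule F (Fin m ⊕ Fin m → F), U = LinearMap.range (Matrix.toLin' e) :=
    ⟨_, rfl⟩
  have hUmem : ∀ u, u ∈ U ↔ e *ᵥ u = u := by
    intro u
    rw [hU]
    constructor
    · rintro ⟨w, rfl⟩
      rw [Matrix.toLin'_apply, Matrix.mulVec_mulVec, hee]
    · intro h
      exact ⟨u, by rw [Matrix.toLin'_apply, h]⟩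
  have heU : ∀ w, e *ᵥ w ∈ U := by
    intro w
    rw [hUmem, Matrix.mulVec_mulVec, hee]
  obtain ⟨a', ha'⟩ := hau.exists_right_inv
  have ha'' : a' * a = 1 := mul_eq_one_comm.mp ha'
  have ha'e : a' * e = e * a' := by
    calc a' * e = a' * e * (a * a') := by rw [ha', mul_one]
      _ = a' * (e * a) * a' := by simp only [mul_assoc]
      _ = a' * (a * e) * a' := by rw [hae]
      _ = (a' * a) * e * a' := by simp only [mul_assoc]
      _ = e * a' := by rw [ha'', one_mul]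
  obtain ⟨B₁, hB₁⟩ : ∃ B₁ : LinearMap.BilinForm F U,
      ∀ u v : U, B₁ u v = (u : Fin m ⊕ Fin m → F) ⬝ᵥ (J (Fin m) F *ᵥ (v : Fin m ⊕ Fin m → F)) :=
    ⟨(Matrix.toBilin' (J (Fin m) F)).restrict U, fun u v => by
      show Matrix.toBilin' (J (Fin m) F) (u : Fin m ⊕ Fin m → F) (v : Fin m ⊕ Fin m → F) = _
      exact Matrix.toBilin'_apply' _ _ _⟩
  obtain ⟨B₂, hB₂⟩ : ∃ B₂ : LinearMap.BilinForm F U,
      ∀ u v : U, B₂ u v = (u : Fin m ⊕ Fin m → F) ⬝ᵥ ((J (Fin m) F * a) *ᵥ (v : Fin m ⊕ Fin m → F)) :=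
    ⟨(Matrix.toBilin' (J (Fin m) F * a)).restrict U, fun u v => by
      show Matrix.toBilin' (J (Fin m) F * a) (u : Fin m ⊕ Fin m → F) (v : Fin m ⊕ Fin m → F) = _
      exact Matrix.toBilin'_apply' _ _ _⟩
  have hn₁ : ∀ u : U, (∀ v : U, B₁ u v = 0) → u = 0 := by
    intro u hu
    apply Subtype.ext
    apply eq_zero_of_J
    intro w
    have h1 := hu ⟨e *ᵥ w, heU w⟩
    rw [hB₁] at h1
    have h2 := adjoint_rel e (u : Fin m ⊕ Fin m → F) w
    rw [hse, (hUmem _).mp u.2] at h2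
    rw [h2]
    exact h1
  have hn₂ : ∀ u : U, (∀ v : U, B₂ u v = 0) → u = 0 := by
    intro u hu
    apply hn₁
    intro v
    have hv : a' *ᵥ (v : Fin m ⊕ Fin m → F) ∈ U := by
      rw [hUmem, Matrix.mulVec_mulVec, ← ha'e, ← Matrix.mulVec_mulVec, (hUmem _).mp v.2]
    have h1 := hu ⟨a' *ᵥ (v : Fin m ⊕ Fin m → F), hv⟩
    rw [hB₂] at h1
    simp only at h1
    rw [Matrix.mulVec_mulVec, Matrix.mul_assoc, ha', Matrix.mul_one] at h1
    rw [hB₁]
    exact h1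
  obtain ⟨c₀, hc₀⟩ := alt_iso B₁ B₂ (fun u => by rw [hB₁]; exact J_alt _)
    (fun u => by rw [hB₂]; exact halt _) hn₁ hn₂
  obtain ⟨c, hc⟩ : ∃ c : Matrix (Fin m ⊕ Fin m) (Fin m ⊕ Fin m) F,
      ∀ w, c *ᵥ w = (c₀ ⟨e *ᵥ w, heU w⟩ : Fin m ⊕ Fin m → F) := by
    refine ⟨LinearMap.toMatrix' (U.subtype ∘ₗ c₀.toLinearMap ∘ₗ
      (LinearMap.codRestrict U (Matrix.toLin' e) (fun w => by
        rw [Matrix.toLin'_apply]; exact heU w))), fun w => ?_⟩
    rw [← Matrix.toLin'_apply, Matrix.toLin'_toMatrix']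
    rfl
  have hcU : ∀ w, c *ᵥ w ∈ U := by
    intro w
    rw [hc]
    exact (c₀ _).2
  refine ⟨c, ?_, ?_, ?_⟩
  · apply Matrix.toLin'.injective
    apply LinearMap.ext
    intro w
    rw [Matrix.toLin'_apply, Matrix.toLin'_apply, ← Matrix.mulVec_mulVec, (hUmem _).mp (hcU w)]
  · apply Matrix.toLin'.injective
    apply LinearMap.ext
    intro w
    rw [Matrix.toLin'_apply, Matrix.toLin'_apply, ← Matrix.mulVec_mulVec, hc, hc]
    congr 2
    apply Subtype.ext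
    show e *ᵥ (e *ᵥ w) = e *ᵥ w
    rw [Matrix.mulVec_mulVec, hee]
  · apply eq_of_form
    intro u w
    rw [← Matrix.mulVec_mulVec, ← adjoint_rel, hc, hc, ← hB₁, ← hc₀, hB₂]
    show (e *ᵥ u) ⬝ᵥ ((J (Fin m) F * a) *ᵥ (e *ᵥ w)) = _
    have h1 : (J (Fin m) F * a) *ᵥ (e *ᵥ w) = J (Fin m) F *ᵥ (a *ᵥ (e *ᵥ w)) :=
      (Matrix.mulVec_mulVec _ _ _).symm
    have h2 : e *ᵥ (a *ᵥ (e *ᵥ w)) = (a * e) *ᵥ w := by
      have h3 : e * a * e = a * e := by rw [Matrix.mul_assoc, hae, ← Matrix.mul_assoc, hee]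
      rw [Matrix.mulVec_mulVec, Matrix.mulVec_mulVec, h3]
    rw [h1, adjoint_rel, hse, h2]

end alt

section core
open Cfsg.Agent.Lib.Helper40.StarCore

theorem closure_comm {E : Type*} [Ring E] (S₀ : Set E)
    (hcomm : ∀ x ∈ S₀, ∀ y ∈ S₀, x * y = y * x)
    (x y : E) (hx : x ∈ Subring.closure S₀) (hy : y ∈ Subring.closure S₀) : x * y = y * x := by
  apply closure_commute S₀ y _ x hx
  intro s hs
  exact (closure_commute S₀ s (fun t ht => hcomm t ht s hs) y hy).symm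

variable {F : Type*} [Field F] {m : ℕ}

theorem cross_zero (e f c d : Matrix (Fin m ⊕ Fin m) (Fin m ⊕ Fin m) F) (hse : sadj e = e)
    (hef : e * f = 0) (hec : e * c = c) (hfd : f * d = d) : sadj c * d = 0 := by
  calc sadj c * d = sadj (e * c) * (f * d) := by rw [hec, hfd]
    _ = sadj c * (e * f) * d := by
        rw [sadj_mul, hse]
        simp only [mul_assoc]
    _ = 0 := by rw [hef, mul_zero, zero_mul]

/-- Wall's argument for symplectic groups, semisimple case: if `X` conjugates the symplectic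
matrix `A` (of order prime to the characteristic) to the symplectic `Bm`, then
`sadj X * X = sadj C * C` for some `C` commuting with `A`. -/
theorem symp_core [Fintype F] (A Bm X : Matrix (Fin m ⊕ Fin m) (Fin m ⊕ Fin m) F) (N : ℕ)
    (hN : (N : F) ≠ 0) (hAN : A ^ N = 1) (hA : sadj A * A = 1) (hB : sadj Bm * Bm = 1)
    (hX : IsUnit X) (hconj : X * A = Bm * X) :
    ∃ C : Matrix (Fin m ⊕ Fin m) (Fin m ⊕ Fin m) F, C * A = A * C ∧ sadj C * C = sadj X * X := by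
  classical
  obtain ⟨a, ha⟩ : ∃ a, a = sadj X * X := ⟨_, rfl⟩
  have hsa : sadj a = a := by rw [ha, sadj_mul, sadj_sadj]
  have hau : IsUnit a := by
    obtain ⟨X', hX'⟩ := hX.exists_right_inv
    have hX'' : X' * X = 1 := mul_eq_one_comm.mp hX'
    apply IsUnit.of_mul_eq_one (X' * sadj X')
    rw [ha]
    calc sadj X * X * (X' * sadj X') = sadj X * (X * X') * sadj X' := by
          simp only [mul_assoc]
      _ = 1 := by rw [hX', mul_one, ← sadj_mul, hX'', sadj_one]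
  have hA' : A * sadj A = 1 := mul_eq_one_comm.mp hA
  have haA : a * A = A * a := by
    have h1 : sadj A * a * A = a := by
      calc sadj A * a * A = sadj (X * A) * (X * A) := by
            rw [ha, sadj_mul]
            simp only [mul_assoc]
        _ = sadj (Bm * X) * (Bm * X) := by rw [hconj]
        _ = sadj X * (sadj Bm * Bm) * X := by
            rw [sadj_mul]
            simp only [mul_assoc]
        _ = a := by rw [hB, mul_one, ha]
    calc a * A = (A * sadj A) * a * A := by rw [hA', one_mul]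
      _ = A * (sadj A * a * A) := by simp only [mul_assoc]
      _ = A * a := by rw [h1]
  have hasA : a * sadj A = sadj A * a := by
    calc a * sadj A = (sadj A * A) * a * sadj A := by rw [hA, one_mul]
      _ = sadj A * (A * a) * sadj A := by simp only [mul_assoc]
      _ = sadj A * (a * A) * sadj A := by rw [haA]
      _ = sadj A * a * (A * sadj A) := by simp only [mul_assoc]
      _ = sadj A * a := by rw [hA', mul_one]
  have halt : ∀ v, v ⬝ᵥ ((J (Fin m) F * a) *ᵥ v) = 0 := by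
    intro v
    have h1 : (J (Fin m) F * a) *ᵥ v = J (Fin m) F *ᵥ (sadj X *ᵥ (X *ᵥ v)) := by
      rw [ha, Matrix.mulVec_mulVec, Matrix.mulVec_mulVec, Matrix.mul_assoc]
    rw [h1, ← adjoint_rel]
    exact J_alt _
  -- the exponent for `-A`
  obtain ⟨M', hM'0, hM'⟩ : ∃ M' : ℕ, (M' : F) ≠ 0 ∧ (-A) ^ M' = 1 := by
    by_cases h2 : (2 : F) = 0
    · refine ⟨N, hN, ?_⟩
      have h3 : -A = A := by
        rw [neg_eq_iff_add_eq_zero, ← two_smul F A, h2, zero_smul]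
      rw [h3, hAN]
    · refine ⟨2 * N, ?_, ?_⟩
      · rw [Nat.cast_mul, Nat.cast_ofNat]
        exact mul_ne_zero h2 hN
      · rw [pow_mul, neg_sq, ← pow_mul, mul_comm, pow_mul, hAN, one_pow]
  have hA'' : sadj (-A) * (-A) = 1 := by rw [sadj_neg, neg_mul_neg, hA]
  obtain ⟨P, hP⟩ : ∃ P, P = Pr (F := F) A N := ⟨_, rfl⟩
  obtain ⟨P', hP'⟩ : ∃ P', P' = Pr (F := F) (-A) M' := ⟨_, rfl⟩
  obtain ⟨Y, hY⟩ : ∃ Y, Y = Yr (F := F) A N := ⟨_, rfl⟩
  obtain ⟨Y', hY'⟩ : ∃ Y', Y' = Yr (F := F) (-A) M' := ⟨_, rfl⟩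
  have hPP : P * P = P := by rw [hP]; exact Pr_idem A N hN hAN
  have hP'P' : P' * P' = P' := by rw [hP']; exact Pr_idem (-A) M' hM'0 hM'
  have hAP : A * P = P := by rw [hP]; exact T_mul_Pr A N hAN
  have hPA : P * A = P := by rw [hP]; exact Pr_mul_T A N hAN
  have hAP' : A * P' = -P' := by
    have h := T_mul_Pr (F := F) (-A) M' hM'
    rw [← hP', neg_mul] at h
    exact neg_eq_iff_eq_neg.mp h
  have hP'A : P' * A = -P' := by
    have h := Pr_mul_T (F := F) (-A) M' hM'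
    rw [← hP', mul_neg] at h
    exact neg_eq_iff_eq_neg.mp h
  have hsP : sadj P = P := by
    rw [hP]
    exact st_Pr (F := F) (E := Matrix (Fin m ⊕ Fin m) (Fin m ⊕ Fin m) F) sadj sadj_mul sadj_sadj A N hN hAN hA
  have hsP' : sadj P' = P' := by
    rw [hP']
    exact st_Pr (F := F) (E := Matrix (Fin m ⊕ Fin m) (Fin m ⊕ Fin m) F) sadj sadj_mul sadj_sadj (-A) M' hM'0 hM' hA''
  have hcAP : Commute A P := by rw [hP]; exact commute_Pr A A N (Commute.refl A)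
  have hcPP' : Commute P P' := by rw [hP']; exact commute_Pr (-A) P M' hcAP.symm.neg_right
  have hcaP : Commute a P := by rw [hP]; exact commute_Pr A a N haA
  have hcaP' : Commute a P' := by
    rw [hP']; exact commute_Pr (-A) a M' (Commute.neg_right haA)
  have hQ : (1 - P) * (1 - P) = 1 - P := by
    rw [mul_sub, mul_one, sub_mul, one_mul, hPP, sub_self, sub_zero]
  have hQ' : (1 - P') * (1 - P') = 1 - P' := by
    rw [mul_sub, mul_one, sub_mul, one_mul, hP'P', sub_self, sub_zero]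
  have hPQ : P * (1 - P) = 0 := by rw [mul_sub, mul_one, hPP, sub_self]
  have hQP : (1 - P) * P = 0 := by rw [sub_mul, one_mul, hPP, sub_self]
  have hP'Q' : P' * (1 - P') = 0 := by rw [mul_sub, mul_one, hP'P', sub_self]
  have hcQP' : Commute (1 - P) P' := (Commute.one_left P').sub_left hcPP'
  have hcQQ' : Commute (1 - P) (1 - P') := (Commute.one_right (1 - P)).sub_right hcQP'
  have hsQ : sadj (1 - P) = 1 - P := by rw [sadj_sub, sadj_one, hsP]
  have hsQ' : sadj (1 - P') = 1 - P' := by rw [sadj_sub, sadj_one, hsP']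
  -- the three idempotents
  obtain ⟨e₂, he₂⟩ : ∃ e₂, e₂ = (1 - P) * P' := ⟨_, rfl⟩
  obtain ⟨e₃, he₃⟩ : ∃ e₃, e₃ = (1 - P) * (1 - P') := ⟨_, rfl⟩
  have hsum : P + e₂ + e₃ = 1 := by
    rw [he₂, he₃, add_assoc, ← mul_add, add_sub_cancel, mul_one, add_sub_cancel]
  have he₂e₂ : e₂ * e₂ = e₂ := by
    rw [he₂]
    calc (1 - P) * P' * ((1 - P) * P') = (1 - P) * (P' * (1 - P)) * P' := by
          simp only [mul_assoc]
      _ = (1 - P) * ((1 - P) * P') * P' := by rw [hcQP'.eq]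
      _ = ((1 - P) * (1 - P)) * (P' * P') := by simp only [mul_assoc]
      _ = (1 - P) * P' := by rw [hQ, hP'P']
  have he₃e₃ : e₃ * e₃ = e₃ := by
    rw [he₃]
    calc (1 - P) * (1 - P') * ((1 - P) * (1 - P')) = (1 - P) * ((1 - P') * (1 - P)) * (1 - P') := by
          simp only [mul_assoc]
      _ = (1 - P) * ((1 - P) * (1 - P')) * (1 - P') := by rw [hcQQ'.eq]
      _ = ((1 - P) * (1 - P)) * ((1 - P') * (1 - P')) := by simp only [mul_assoc]
      _ = (1 - P) * (1 - P') := by rw [hQ, hQ']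
  have hse₂ : sadj e₂ = e₂ := by rw [he₂, sadj_mul, hsP', hsQ, hcQP'.eq]
  have hse₃ : sadj e₃ = e₃ := by rw [he₃, sadj_mul, hsQ', hsQ, hcQQ'.eq]
  have hPe₂ : P * e₂ = 0 := by rw [he₂, ← mul_assoc, hPQ, zero_mul]
  have hPe₃ : P * e₃ = 0 := by rw [he₃, ← mul_assoc, hPQ, zero_mul]
  have he₂e₃ : e₂ * e₃ = 0 := by
    rw [he₂, he₃]
    calc (1 - P) * P' * ((1 - P) * (1 - P')) = (1 - P) * (P' * (1 - P)) * (1 - P') := by
          simp only [mul_assoc]
      _ = (1 - P) * ((1 - P) * P') * (1 - P') := by rw [hcQP'.eq]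
      _ = (1 - P) * (1 - P) * (P' * (1 - P')) := by simp only [mul_assoc]
      _ = 0 := by rw [hP'Q', mul_zero]
  have hcaQ : Commute a (1 - P) := (Commute.one_right a).sub_right hcaP
  have hae₂ : a * e₂ = e₂ * a := by
    rw [he₂]
    exact (hcaQ.mul_right hcaP').eq
  obtain ⟨c₁, hPc₁, hc₁P, hc₁⟩ := alt_part P a hPP hsP hcaP.eq hau halt
  obtain ⟨c₂, he₂c₂, hc₂e₂, hc₂⟩ := alt_part e₂ a he₂e₂ hse₂ hae₂ hau halt
  -- the generic part
  obtain ⟨S₀, hS₀⟩ : ∃ S₀ : Set (Matrix (Fin m ⊕ Fin m) (Fin m ⊕ Fin m) F),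
      S₀ = {A, sadj A, a} ∪
        Set.range (algebraMap F (Matrix (Fin m ⊕ Fin m) (Fin m ⊕ Fin m) F)) := ⟨_, rfl⟩
  have hmemS : ∀ x, x ∈ S₀ ↔ (x = A ∨ x = sadj A ∨ x = a) ∨
      ∃ r : F, algebraMap F (Matrix (Fin m ⊕ Fin m) (Fin m ⊕ Fin m) F) r = x := by
    intro x
    rw [hS₀]
    rfl
  have hcomm : ∀ x ∈ S₀, ∀ y ∈ S₀, x * y = y * x := by
    intro x hx y hy
    rcases (hmemS x).mp hx with (hx1 | hx1 | hx1) | ⟨r, hx1⟩
    · rcases (hmemS y).mp hy with (hy1 | hy1 | hy1) | ⟨s, hy1⟩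
      · rw [hx1, hy1]
      · rw [hx1, hy1, hA', hA]
      · rw [hx1, hy1, haA]
      · rw [← hy1]; exact (Algebra.commutes s x).symm
    · rcases (hmemS y).mp hy with (hy1 | hy1 | hy1) | ⟨s, hy1⟩
      · rw [hx1, hy1, hA', hA]
      · rw [hx1, hy1]
      · rw [hx1, hy1, hasA]
      · rw [← hy1]; exact (Algebra.commutes s x).symm
    · rcases (hmemS y).mp hy with (hy1 | hy1 | hy1) | ⟨s, hy1⟩
      · rw [hx1, hy1, haA]
      · rw [hx1, hy1, hasA]
      · rw [hx1, hy1]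
      · rw [← hy1]; exact (Algebra.commutes s x).symm
    · rw [← hx1]; exact Algebra.commutes r y
  have hstar : ∀ x ∈ S₀, sadj x ∈ S₀ := by
    intro x hx
    rcases (hmemS x).mp hx with (hx1 | hx1 | hx1) | ⟨r, hx1⟩
    · rw [hx1]; exact (hmemS _).mpr (Or.inl (Or.inr (Or.inl rfl)))
    · rw [hx1, sadj_sadj]; exact (hmemS _).mpr (Or.inl (Or.inl rfl))
    · rw [hx1, hsa]; exact (hmemS _).mpr (Or.inl (Or.inr (Or.inr rfl)))
    · rw [← hx1, sadj_algebraMap]; exact (hmemS _).mpr (Or.inr ⟨r, rfl⟩)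
  have hAm : A ∈ Subring.closure S₀ := Subring.subset_closure ((hmemS _).mpr (Or.inl (Or.inl rfl)))
  have ham : a ∈ Subring.closure S₀ :=
    Subring.subset_closure ((hmemS _).mpr (Or.inl (Or.inr (Or.inr rfl))))
  have hscal : ∀ r : F, algebraMap F (Matrix (Fin m ⊕ Fin m) (Fin m ⊕ Fin m) F) r ∈
      Subring.closure S₀ := fun r => Subring.subset_closure ((hmemS _).mpr (Or.inr ⟨r, rfl⟩))
  have hPm : P ∈ Subring.closure S₀ := by rw [hP]; exact Pr_mem A N _ hAm hscal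
  have hP'm : P' ∈ Subring.closure S₀ := by rw [hP']; exact Pr_mem (-A) M' _ (neg_mem hAm) hscal
  have hYm : Y ∈ Subring.closure S₀ := by rw [hY]; exact Yr_mem A N _ hAm hscal
  have hY'm : Y' ∈ Subring.closure S₀ := by rw [hY']; exact Yr_mem (-A) M' _ (neg_mem hAm) hscal
  have he₂m : e₂ ∈ Subring.closure S₀ := by
    rw [he₂]; exact mul_mem (sub_mem (one_mem _) hPm) hP'm
  have he₃m : e₃ ∈ Subring.closure S₀ := by
    rw [he₃]; exact mul_mem (sub_mem (one_mem _) hPm) (sub_mem (one_mem _) hP'm)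
  have h1 : 1 - P = (1 - A) * Y := by rw [hP, hY]; exact one_sub_Pr A N hN
  have h2 : 1 - P' = (1 + A) * Y' := by
    have h := one_sub_Pr (F := F) (-A) M' hM'0
    rw [sub_neg_eq_add, ← hP', ← hY'] at h
    exact h
  have hcY : Commute (1 + A) Y := by
    rw [hY]
    exact commute_Yr A (1 + A) N ((Commute.one_left A).add_left (Commute.refl A))
  have hθy : (A - sadj A) * (-(A * Y * Y')) = e₃ := by
    have h3 : (A - sadj A) * (-(A * Y * Y')) = (sadj A * A - A * A) * (Y * Y') := by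
      noncomm_ring
    have h4 : (1 : Matrix (Fin m ⊕ Fin m) (Fin m ⊕ Fin m) F) - A * A = (1 - A) * (1 + A) := by
      noncomm_ring
    rw [h3, hA, h4, he₃, h1, h2]
    calc (1 - A) * (1 + A) * (Y * Y') = (1 - A) * ((1 + A) * Y) * Y' := by
          simp only [mul_assoc]
      _ = (1 - A) * (Y * (1 + A)) * Y' := by rw [hcY.eq]
      _ = (1 - A) * Y * ((1 + A) * Y') := by simp only [mul_assoc]
  obtain ⟨c₃, hc₃m, hc₃⟩ := star_core (E := Matrix (Fin m ⊕ Fin m) (Fin m ⊕ Fin m) F) sadj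
    sadj_add sadj_mul sadj_one sadj_sadj S₀ hcomm hstar e₃ A (-(A * Y * Y')) a he₃m he₃e₃ hse₃ hAm
    (neg_mem (mul_mem (mul_mem hAm hYm) hY'm)) hθy ham hau hsa
  have he₃c₃ : e₃ * c₃ = c₃ * e₃ := closure_comm S₀ hcomm e₃ c₃ he₃m hc₃m
  have he₃a : e₃ * a = a * e₃ := closure_comm S₀ hcomm e₃ a he₃m ham
  obtain ⟨c₃', hc₃'⟩ : ∃ c₃', c₃' = c₃ * e₃ := ⟨_, rfl⟩
  have he₃c₃' : e₃ * c₃' = c₃' := by
    rw [hc₃', ← mul_assoc, he₃c₃, mul_assoc, he₃e₃]
  have hc₃'' : sadj c₃' * c₃' = a * e₃ := by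
    rw [hc₃', sadj_mul, hse₃]
    calc e₃ * sadj c₃ * (c₃ * e₃) = e₃ * (sadj c₃ * c₃ * e₃) := by simp only [mul_assoc]
      _ = e₃ * (a * e₃) := by rw [hc₃]
      _ = a * (e₃ * e₃) := by rw [← mul_assoc, he₃a, mul_assoc]
      _ = a * e₃ := by rw [he₃e₃]
  have hc₃'m : c₃' ∈ Subring.closure S₀ := by rw [hc₃']; exact mul_mem hc₃m he₃m
  have he₂P : e₂ * P = 0 := by rw [closure_comm S₀ hcomm e₂ P he₂m hPm, hPe₂]
  have he₃P : e₃ * P = 0 := by rw [closure_comm S₀ hcomm e₃ P he₃m hPm, hPe₃]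
  have he₃e₂ : e₃ * e₂ = 0 := by rw [closure_comm S₀ hcomm e₃ e₂ he₃m he₂m, he₂e₃]
  have z12 : sadj c₁ * c₂ = 0 := cross_zero P e₂ c₁ c₂ hsP hPe₂ hPc₁ he₂c₂
  have z13 : sadj c₁ * c₃' = 0 := cross_zero P e₃ c₁ c₃' hsP hPe₃ hPc₁ he₃c₃'
  have z21 : sadj c₂ * c₁ = 0 := cross_zero e₂ P c₂ c₁ hse₂ he₂P he₂c₂ hPc₁
  have z23 : sadj c₂ * c₃' = 0 := cross_zero e₂ e₃ c₂ c₃' hse₂ he₂e₃ he₂c₂ he₃c₃'
  have z31 : sadj c₃' * c₁ = 0 := cross_zero e₃ P c₃' c₁ hse₃ he₃P he₃c₃' hPc₁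
  have z32 : sadj c₃' * c₂ = 0 := cross_zero e₃ e₂ c₃' c₂ hse₃ he₃e₂ he₃c₃' he₂c₂
  refine ⟨c₁ + c₂ + c₃', ?_, ?_⟩
  · have k1 : c₁ * A = A * c₁ := by
      calc c₁ * A = c₁ * (P * A) := by rw [← mul_assoc, hc₁P]
        _ = c₁ := by rw [hPA, hc₁P]
        _ = A * c₁ := by rw [← hPc₁, ← mul_assoc, hAP]
    have k2 : c₂ * A = A * c₂ := by
      have k3 : e₂ * A = -e₂ := by
        rw [he₂, mul_assoc, hP'A, mul_neg]
      have k4 : A * e₂ = -e₂ := by
        rw [closure_comm S₀ hcomm A e₂ hAm he₂m, k3]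
      calc c₂ * A = c₂ * (e₂ * A) := by rw [← mul_assoc, hc₂e₂]
        _ = -c₂ := by rw [k3, mul_neg, hc₂e₂]
        _ = A * c₂ := by rw [← he₂c₂, ← mul_assoc, k4, neg_mul]
    have k5 : c₃' * A = A * c₃' := closure_comm S₀ hcomm c₃' A hc₃'m hAm
    rw [add_mul, add_mul, mul_add, mul_add, k1, k2, k5]
  · rw [sadj_add, sadj_add]
    simp only [add_mul, mul_add, z12, z13, z21, z23, z31, z32, add_zero, zero_add, hc₁, hc₂, hc₃'']
    rw [← mul_add, ← mul_add, hsum, mul_one, ha]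

end core

section final
variable {F : Type*} [Field F] [Fintype F] {m : ℕ}

/-- Two elements of `Sp_{2m}(F)`, the first of order prime to the characteristic (`A ^ N = 1` with
`N` invertible in `F`), which are conjugate under an invertible matrix are conjugate in
`Sp_{2m}(F)`. -/
theorem symp_conj (A B : Matrix.symplecticGroup (Fin m) F) (N : ℕ) (hN : (N : F) ≠ 0)
    (hAN : (A : Matrix (Fin m ⊕ Fin m) (Fin m ⊕ Fin m) F) ^ N = 1)
    (X : Matrix (Fin m ⊕ Fin m) (Fin m ⊕ Fin m) F) (hX : IsUnit X)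
    (hconj : X * (A : Matrix (Fin m ⊕ Fin m) (Fin m ⊕ Fin m) F) =
      (B : Matrix (Fin m ⊕ Fin m) (Fin m ⊕ Fin m) F) * X) : IsConj A B := by
  classical
  have hA := (mem_symp_iff (A : Matrix (Fin m ⊕ Fin m) (Fin m ⊕ Fin m) F)).mp A.2
  have hB := (mem_symp_iff (B : Matrix (Fin m ⊕ Fin m) (Fin m ⊕ Fin m) F)).mp B.2
  obtain ⟨C, hCA, hCC⟩ := symp_core _ _ X N hN hAN hA hB hX hconj
  have hCu : IsUnit C := by
    have h1 : IsUnit (sadj C * C) := by
      rw [hCC]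
      obtain ⟨X', hX'⟩ := hX.exists_right_inv
      have hX'' : X' * X = 1 := mul_eq_one_comm.mp hX'
      apply IsUnit.of_mul_eq_one (X' * sadj X')
      calc sadj X * X * (X' * sadj X') = sadj X * (X * X') * sadj X' := by
            simp only [mul_assoc]
        _ = 1 := by rw [hX', mul_one, ← sadj_mul, hX'', sadj_one]
    rw [Matrix.isUnit_iff_isUnit_det] at h1 ⊢
    rw [Matrix.det_mul] at h1
    exact isUnit_of_mul_isUnit_right h1
  obtain ⟨Ci, hCi⟩ := hCu.exists_right_inv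
  have hCi' : Ci * C = 1 := mul_eq_one_comm.mp hCi
  have hCiA : Ci * (A : Matrix (Fin m ⊕ Fin m) (Fin m ⊕ Fin m) F) =
      (A : Matrix (Fin m ⊕ Fin m) (Fin m ⊕ Fin m) F) * Ci := by
    calc Ci * (A : Matrix (Fin m ⊕ Fin m) (Fin m ⊕ Fin m) F)
        = Ci * (A : Matrix (Fin m ⊕ Fin m) (Fin m ⊕ Fin m) F) * (C * Ci) := by rw [hCi, mul_one]
      _ = Ci * ((A : Matrix (Fin m ⊕ Fin m) (Fin m ⊕ Fin m) F) * C) * Ci := by
          simp only [mul_assoc]
      _ = Ci * (C * (A : Matrix (Fin m ⊕ Fin m) (Fin m ⊕ Fin m) F)) * Ci := by rw [hCA]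
      _ = (Ci * C) * (A : Matrix (Fin m ⊕ Fin m) (Fin m ⊕ Fin m) F) * Ci := by
          simp only [mul_assoc]
      _ = (A : Matrix (Fin m ⊕ Fin m) (Fin m ⊕ Fin m) F) * Ci := by rw [hCi', one_mul]
  have hY : X * Ci ∈ Matrix.symplecticGroup (Fin m) F := by
    rw [mem_symp_iff, sadj_mul]
    calc sadj Ci * sadj X * (X * Ci) = sadj Ci * (sadj X * X) * Ci := by simp only [mul_assoc]
      _ = sadj Ci * sadj C * (C * Ci) := by
          rw [← hCC]
          simp only [mul_assoc]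
      _ = 1 := by rw [hCi, mul_one, ← sadj_mul, hCi, sadj_one]
  have hYA : (⟨X * Ci, hY⟩ : Matrix.symplecticGroup (Fin m) F) * A =
      B * (⟨X * Ci, hY⟩ : Matrix.symplecticGroup (Fin m) F) := by
    apply Subtype.ext
    show X * Ci * (A : Matrix (Fin m ⊕ Fin m) (Fin m ⊕ Fin m) F) =
      (B : Matrix (Fin m ⊕ Fin m) (Fin m ⊕ Fin m) F) * (X * Ci)
    rw [mul_assoc, hCiA, ← mul_assoc, hconj, mul_assoc]
  exact isConj_iff.mpr ⟨⟨X * Ci, hY⟩, by rw [hYA, mul_inv_cancel_right]⟩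

end final

end Cfsg.Agent.Lib.Helper40.SympConj
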