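import Mathlib
import Cfsg.Prelude.Def_Classical
import Cfsg.Prelude.Def_GeometricClasses
import Cfsg.Agent.Lib.Helper37.HypStmt
import Cfsg.Agent.Lib.Helper94.OPStmt

/-!
# S5974 (call by helper40): statement pieces

`POmega^+_(2d)(q)`, ALL `q`, elements of prime order `r` (modulo scalars), `r = 2` or `r ≠ p`,
and HYPERBOLIC `m`-spaces, `m` even, `2 ≤ m < d`.  Everything is about the standard plus form
`Cfsg.quadFormPlus d F` on `P d → F`, `P d = Fin d ⊕ Fin d` (defs `P FxP NDegP StabP NP` are the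
ones of `Cfsg.Agent.Lib.Helper94.OPStmt`), dimension `2 d`.

Notation in the sketches: `i = ord_r(q)`, `c = cc i` (`i` if `i` even, `2 i` if `i` odd),
`k = (2d) % c`, `J = (2d) / c`, `l = m % c`, `a = m / c`.  For an isometry `y` with `y ^ r = 1`
(`r` odd, `r ≠ p`): `V = C ⊥ E`, `C = Fix y`, `E = [V, y]`, `dim E = j c`;
`i` odd: `E` and every invariant nondegenerate subspace without fixed vectors is hyperbolic;
`i` even: such a subspace of dimension `j' i` is hyperbolic iff `j'` is even; so `C` has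
dimension `2d - j c` and type `(-)^j` (`i` even) resp. plus (`i` odd).
-/

set_option autoImplicit false

universe u

open scoped Matrix

namespace Cfsg.Agent.Lib.Helper40.HPStmt

open Cfsg.Agent.Lib.Helper37.HypStmt (cc)
open Cfsg.Agent.Lib.Helper94.OPStmt (P FxP NDegP StabP NP)

/-- hyperbolic `m`-space of the plus form, in the literal form of the S5974 statement -/
def HypJ (d : ℕ) (F : Type u) [Field F] (m : ℕ) (W : Submodule F (P d → F)) : Prop :=
  Module.finrank F ↥W = m ∧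
    (∀ u ∈ W, u ≠ 0 → ∃ v ∈ W, QuadraticMap.polar (Cfsg.quadFormPlus d F) u v ≠ 0) ∧
    ∃ U : Submodule F (P d → F), U ≤ W ∧ 2 * Module.finrank F ↥U = m ∧
      ∀ u ∈ U, Cfsg.quadFormPlus d F u = 0

/-- `HypJ` in terms of the Prelude predicates -/
theorem hypJ_iff {F : Type u} [Field F] (d m : ℕ) (W : Submodule F (P d → F)) :
    HypJ d F m W ↔ (Module.finrank F ↥W = m ∧ NDegP d F W ∧
      Cfsg.Geo.IsPlusTypeOn (Cfsg.quadFormPlus d F) W) := by
  unfold HypJ NDegP Cfsg.Geo.IsNondegenerateOn Cfsg.Geo.IsPlusTypeOn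
    Cfsg.Geo.IsTotallySingularQuad
  constructor
  · rintro ⟨h1, h2, U, hU, hU2, hU0⟩
    refine ⟨h1, fun w hw hw0 => ?_, U, hU, hU0, by rw [h1]; exact hU2⟩
    obtain ⟨v, hv, hne⟩ := h2 w hw hw0
    exact ⟨⟨v, hv, by rwa [QuadraticMap.polar_comm]⟩, ⟨v, hv, hne⟩⟩
  · rintro ⟨h1, h2, U, hU, hU0, hU2⟩
    exact ⟨h1, fun u hu hu0 => (h2 u hu hu0).2, U, hU, by rw [← h1]; exact hU2, hU0⟩

/-- ordered hyperbolic systems of `h` pairs of the plus form -/
def HSysJ (d : ℕ) (F : Type u) [Field F] (h : ℕ) : Type u :=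
  {ef : (Fin h → P d → F) × (Fin h → P d → F) //
    (∀ a, Cfsg.quadFormPlus d F (ef.1 a) = 0) ∧ (∀ a, Cfsg.quadFormPlus d F (ef.2 a) = 0) ∧
    (∀ a b, QuadraticMap.polar (Cfsg.quadFormPlus d F) (ef.1 a) (ef.1 b) = 0) ∧
    (∀ a b, QuadraticMap.polar (Cfsg.quadFormPlus d F) (ef.2 a) (ef.2 b) = 0) ∧
    (∀ a b, QuadraticMap.polar (Cfsg.quadFormPlus d F) (ef.1 a) (ef.2 b) = if a = b then 1 else 0)}

/-- the arithmetic condition of S5974 for odd `r ≠ p` (clauses (ii), (iii) of the statement) -/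
def CondH (d m i : ℕ) : Prop :=
  (Odd i ∧ cc i ≤ m ∧ m % cc i ≤ (2 * d) % cc i) ∨
  (Even i ∧
    (((2 * d) % cc i = 0 ∧ (Odd ((2 * d) / i) ∨ (m % cc i = 0 ∧ Even (m / i)))) ∨
     (i ≤ m ∧ ((m % cc i < (2 * d) % cc i ∧ 0 < m % cc i) ∨
       ((2 * d) % cc i = m % cc i ∧ 0 < m % cc i ∧
         Even ((2 * d + m - 2 * ((2 * d) % cc i)) / i)) ∨
       (0 < (2 * d) % cc i ∧ m % cc i = 0 ∧ Even (m / i))))))

/-- what `r ∣ #hyperbolic m-spaces` gives -/
def NDivC (d m i : ℕ) : Prop :=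
  (Odd i → cc i ≤ m ∨ (2 * d) % cc i < m) ∧
  (Even i → i ≤ m ∨ (2 * d) % i = 0 ∨ (2 * d) % i < m ∨ ((2 * d) % i = m ∧ Odd ((2 * d) / i)))

/-! ## Odd `r ≠ p`, all `q` (char-free!) -/

/-- B1H: under `CondH`, every isometry `y` with `y ^ r = 1` fixes a hyperbolic `m`-space.
Sketch (all `y`, parameter `j = dim [V,y] / c`, `0 ≤ j ≤ J`; `W = W_C ⊥ W_E`, `W_E ≤ E` invariant
nondegenerate of dim `j' c` (GenBlocks.blocks_mat), `W_C ≤ C` of dim `m - j' c` and of the type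
that makes `W` plus): `i` odd: `j' = min j a`.  `i` even: `j ≥ a`: `j' = a` works when `l > 0`
or `a` even (if `dim W_C = dim C` compare types: `a ≡ j`); `k = 0`, `J` odd, `l = 0`, `a` odd:
`j' = a - 1`, `dim W_C = i`; `j < a`: `j' = j`, `0 < dim W_C < dim C` (both types available).
Needs: Helper43.GenBlocks (blocks_mat, fix_nd, hinv_all), Helper90 typeEven_gen / halfOdd_gen,
a char-free "nondegenerate `C` of dim `f` contains a nondegenerate subspace of even dim `m₀ ≤ f`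
of prescribed type unless (`m₀ = 0`, type minus) or (`m₀ = f`, type ≠ type `C`)", and
"`A ⊥ B = V` plus type: `A` plus ↔ `B` plus". -/
def B1H : Prop :=
  ∀ (F : Type u) [Field F] [Fintype F] (p : ℕ) [Fact p.Prime] [CharP F p]
    (d m : ℕ), 4 ≤ d → 2 ≤ m → Even m → m < d →
    ∀ (r : ℕ) [Fact r.Prime], r ≠ 2 → r ≠ p →
    CondH d m (orderOf ((Fintype.card F : ℕ) : ZMod r)) →
    ∀ y : Matrix.GeneralLinearGroup (P d) F, y ∈ Cfsg.isometryGroup F (Cfsg.quadFormPlus d F) →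
    y ^ r = 1 →
    ∃ W : Submodule F (P d → F), HypJ d F m W ∧ StabP (y : Matrix (P d) (P d) F) W

/-- B2H: if `CondH` fails and `NDivC` holds, some element of order `r` of `Omega^+` fixes no
hyperbolic `m`-space.  Sketch: `x` = element of `Omega^+` of order `r` with `dim Fix x = k`
(`DerEltP`-type piece, needed for ALL `q`: exists when `c ≤ 2d` and (`k > 0` or `i` odd or
`(2d)/i` even); `NDivC` + `¬ CondH` give `c ≤ 2d` and, if `k = 0` and `i` even, `(2d)/i` even).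
An invariant hyperbolic `W`: `dim (W ∩ C) ≡ l (mod c)` and `≤ k < c`, so `= l ≤ k`.
`i` odd: `¬ CondH` + `NDivC` give `l > k`.  `i` even: `k = 0`: `W ∩ C = 0`, `W` of type
`(-)^a`, so `l = 0`, `a` even: excluded.  `k > 0`, `i ≤ m`: `l = 0` (type `(-)^a`, `a` odd) or
`l = k` (`W ⊇ C`, type `(-)^(J + a)`, odd).  `m < i`: `NDivC` gives `k < m` (no) or `k = m`,
`J` odd: `W = C` of type `(-)^J`. -/
def B2H : Prop :=
  ∀ (F : Type u) [Field F] [Fintype F] (p : ℕ) [Fact p.Prime] [CharP F p]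
    (d m : ℕ), 4 ≤ d → 2 ≤ m → Even m → m < d →
    ∀ (r : ℕ) [Fact r.Prime], r ≠ 2 → r ≠ p →
    NDivC d m (orderOf ((Fintype.card F : ℕ) : ZMod r)) →
    ¬ CondH d m (orderOf ((Fintype.card F : ℕ) : ZMod r)) →
    ∃ x : Matrix.GeneralLinearGroup (P d) F, x ∈ Cfsg.Geo.omegaGL (Cfsg.quadFormPlus d F) ∧
      orderOf x = r ∧
      ∀ W : Submodule F (P d → F), HypJ d F m W → ¬ StabP (x : Matrix (P d) (P d) F) W

/-- HYPFIBJ: the number of hyperbolic `2h`-spaces divides the number of hyperbolic systems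
(port of `HypStmt.HypFib` to the plus form, all `q`: the span map is onto with equal fibres). -/
def HypFibJ : Prop :=
  ∀ (F : Type u) [Field F] [Fintype F] (d h : ℕ), h ≤ d →
    Nat.card {W : Submodule F (P d → F) // HypJ d F (2 * h) W} ∣ Nat.card (HSysJ d F h)

/-- HYPCNTJ: `#HSysJ d h = ∏_{t<h} (q^(d-t) - 1) (q^(d-t-1) + 1) q^(2(d-t)-2)` (singular nonzero
`e` in a plus space of dim `2(d-t)`, then `f` singular with `β(e,f) = 1`), so a prime `r ∤ q`
dividing it divides some factor (port of `HypStmt.HypCnt`). -/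
def HypCntJ : Prop :=
  ∀ (F : Type u) [Field F] [Fintype F] (d h : ℕ), h ≤ d →
    ∀ r : ℕ, r.Prime → ¬ r ∣ Fintype.card F → r ∣ Nat.card (HSysJ d F h) →
    ∃ t : ℕ, t < h ∧
      r ∣ (Fintype.card F ^ (d - t) - 1) * (Fintype.card F ^ (d - t - 1) + 1)

/-- NDARITHJ: pure arithmetic.  `r ∣ q^s - 1 ↔ i ∣ s`; `r ∣ q^s + 1 → i` even and
`s ≡ i/2 (mod i)`.  `i ∣ d - t`: `(2d) % c = 2t < 2h` when `2h < c`.
`d - t - 1 = i s + i/2`: `2d = (2s+1) i + 2t + 2`, so if `2h < i`: `(2d) % i = 2t + 2 ≤ 2h`,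
with equality only if `(2d)/i = 2s+1` is odd. -/
def NdArithJ : Prop :=
  ∀ (q d h t r : ℕ), r.Prime → r ≠ 2 → ¬ r ∣ q → t < h → 2 * h < d →
    r ∣ (q ^ (d - t) - 1) * (q ^ (d - t - 1) + 1) →
    NDivC d (2 * h) (orderOf ((q : ℕ) : ZMod r))

/-! ## `r = 2`, `q` odd -/

/-- INVOLH: `q` odd: an isometry with `x * x = 1` fixes a hyperbolic `m`-space (eigenspaces
`V₊ ⊥ V₋` nondegenerate, one has dim `≥ d > m`, and a nondegenerate space of dim `> m` contains
a hyperbolic `m`-space). -/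
def InvolH : Prop :=
  ∀ (F : Type u) [Field F] [Fintype F], Odd (Fintype.card F) → ∀ (d m : ℕ), 4 ≤ d → 2 ≤ m →
    Even m → m < d →
    ∀ x : Matrix.GeneralLinearGroup (P d) F, x ∈ Cfsg.isometryGroup F (Cfsg.quadFormPlus d F) →
    (x : Matrix (P d) (P d) F) * (x : Matrix (P d) (P d) F) = 1 →
    ∃ W : Submodule F (P d → F), HypJ d F m W ∧ StabP (x : Matrix (P d) (P d) F) W

/-- NEGSQFIX1: `q ≡ 1 (mod 4)`: an isometry with `x * x = -1` fixes a hyperbolic `m`-space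
(`ι² = -1`; eigenspaces `V_ι`, `V_{-ι}` totally singular, in duality, dim `d` each:
`W = ⟨u_1..u_h⟩ ⊕ ⟨v_1..v_h⟩`, `u_a ∈ V_ι`, `v_b ∈ V_{-ι}`, `β(u_a, v_b) = δ_ab`, `h = m/2`). -/
def NegSqFix1 : Prop :=
  ∀ (F : Type u) [Field F] [Fintype F], Fintype.card F % 4 = 1 → ∀ (d m : ℕ), 4 ≤ d → 2 ≤ m →
    Even m → m < d →
    ∀ x : Matrix.GeneralLinearGroup (P d) F, x ∈ Cfsg.isometryGroup F (Cfsg.quadFormPlus d F) →
    (x : Matrix (P d) (P d) F) * (x : Matrix (P d) (P d) F) = -1 →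
    ∃ W : Submodule F (P d → F), HypJ d F m W ∧ StabP (x : Matrix (P d) (P d) F) W

/-- NEGSQFIX0: `q ≡ 3 (mod 4)`, `4 ∣ m`: an isometry with `x * x = -1` fixes a hyperbolic
`m`-space: `β(u, x u) = 0`, `Q(x u) = Q(u)`; `m/2` pairwise orthogonal invariant planes
`⟨u, x u⟩`, `Q u ≠ 0` (Helper10.OFEIGM / Helper2.NegSqGen.exists_planes); their sum is
nondegenerate of dim `m` with Gram determinant a square `= (-1)^(m/2)` mod squares, so plus. -/
def NegSqFix0 : Prop :=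
  ∀ (F : Type u) [Field F] [Fintype F], Fintype.card F % 4 = 3 → ∀ (d m : ℕ), 4 ≤ d → 2 ≤ m →
    m % 4 = 0 → m < d →
    ∀ x : Matrix.GeneralLinearGroup (P d) F, x ∈ Cfsg.isometryGroup F (Cfsg.quadFormPlus d F) →
    (x : Matrix (P d) (P d) F) * (x : Matrix (P d) (P d) F) = -1 →
    ∃ W : Submodule F (P d → F), HypJ d F m W ∧ StabP (x : Matrix (P d) (P d) F) W

/-- NEGSQNOHYP: `q ≡ 3 (mod 4)`, `m ≡ 2 (mod 4)`: an isometry with `x * x = -1` stabilises no
hyperbolic `m`-space: on an invariant nondegenerate `W` the Gram determinant is a square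
(Helper2.NegSqGen.isSquare_det on a basis of `W`), but a hyperbolic space of dim `m` has Gram
determinant `(-1)^(m/2) = -1` mod squares, a nonsquare. -/
def NegSqNoHyp : Prop :=
  ∀ (F : Type u) [Field F] [Fintype F], Fintype.card F % 4 = 3 → ∀ (d m : ℕ), m % 4 = 2 →
    ∀ x : Matrix.GeneralLinearGroup (P d) F, x ∈ Cfsg.isometryGroup F (Cfsg.quadFormPlus d F) →
    (x : Matrix (P d) (P d) F) * (x : Matrix (P d) (P d) F) = -1 →
    ∀ W : Submodule F (P d → F), HypJ d F m W → ¬ StabP (x : Matrix (P d) (P d) F) W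

/-! ## `r = 2 = p` (characteristic 2) -/

/-- C2FIX: char 2: every isometry with `x * x = 1` fixes a hyperbolic `m`-space if `d` is odd
or `4 ∣ m`.  Sketch, `N = x - 1`, `N² = 0`, `β(N u, v) = β(u, N v)`, `Q(N u) = β(u, x u)
= β(u, N u)`, and `u ↦ β(u, N u)` is additive, so `β(u, N u) = ℓ(u)²` with `ℓ` linear.
General claim by induction on `dim V = 2d'` for an abstract nondegenerate plus-type `(V, Q)`,
isometry `x`, `x² = 1`, even `m ≤ 2d'`: an invariant hyperbolic `m`-space exists unless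
(`ℓ = 0`, `rank N = d'`, `m ≡ 2 mod 4`).  Steps: `x = 1`: clear.  `ℓ ≠ 0`: a singular `u` with
`ℓ u ≠ 0` gives the invariant hyperbolic plane `⟨u, x u⟩`; pass to its perp (plus type, dim
`2d' - 2`) with `m - 2`, or with `m` if the perp is exceptional for `m - 2` (then `4 ∣ m`).
`ℓ = 0`, `N u ≠ 0`: pick `v` with `β(N u, v) = 1`: `⟨u, v, N u, N v⟩` is an invariant hyperbolic
4-space (`⟨N u, N v⟩` totally singular); pass to its perp with `m - 4` (`m = 2`: use the perp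
with `m`).  For the standard form with `d` odd the exception needs `rank N = d` even. -/
def C2Fix : Prop :=
  ∀ (F : Type u) [Field F] [Fintype F] [CharP F 2] (d m : ℕ), 4 ≤ d → 2 ≤ m → Even m → m < d →
    (Odd d ∨ m % 4 = 0) →
    ∀ x : Matrix.GeneralLinearGroup (P d) F, x ∈ Cfsg.isometryGroup F (Cfsg.quadFormPlus d F) →
    (x : Matrix (P d) (P d) F) * (x : Matrix (P d) (P d) F) = 1 →
    ∃ W : Submodule F (P d → F), HypJ d F m W ∧ StabP (x : Matrix (P d) (P d) F) W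

/-- C2DER: char 2, `d` even, `m ≡ 2 (mod 4)`: `x = fromBlocks 1 S 0 1`, `S` the permutation
matrix of `2a ↔ 2a+1` (`x v = v + N v`, `N (a; b) = (S b; 0)`): isometry as
`Σ b_(σ i) b_i = 2 Σ b_(2a) b_(2a+1) = 0`; `x * x = 1`; `x ≠ 1`; in `Omega^+` as a product of
`d/2` Siegel elements `fromBlocks 1 (E_ik + E_ki) 0 1 = [diag(A, A⁻ᵀ), fromBlocks 1 B 0 1]`,
`A = 1 + E_ij`, `B = E_jk + E_kj`, `j ∉ {i,k}` (or the S5973 lemma on upper unitriangular
elements).  No invariant nondegenerate `W` of dim `m`: `rank N = d` forces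
`rank (N|W) = m/2`; `γ(u,v) = β(u, N v)` is symmetric, and alternating as `β(u, N u) = 0`, with
radical `ker (N|W)` on `W`, so `m/2 = rank (N|W)` is even. -/
def C2Der : Prop :=
  ∀ (F : Type u) [Field F] [Fintype F] [CharP F 2] (d m : ℕ), 4 ≤ d → Even d → m % 4 = 2 →
    ∃ x : Matrix.GeneralLinearGroup (P d) F, x ∈ Cfsg.Geo.omegaGL (Cfsg.quadFormPlus d F) ∧
      (x : Matrix (P d) (P d) F) * (x : Matrix (P d) (P d) F) = 1 ∧ x ≠ 1 ∧
      ∀ W : Submodule F (P d → F), HypJ d F m W → ¬ StabP (x : Matrix (P d) (P d) F) W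

end Cfsg.Agent.Lib.Helper40.HPStmt
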