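import Mathlib
import Cfsg.Agent.Lib.Helper40.SympConj

set_option autoImplicit false

namespace Cfsg.Agent.Lib.Helper40.SpReal

open Polynomial Matrix

variable {F : Type*} [Field F]

/-- The "symplectic lift" of a polynomial: `X^n h(X + 1/X)`. -/
noncomputable def psi (n : ℕ) (h : F[X]) : F[X] :=
  ∑ k ∈ Finset.range (n + 1), C (h.coeff k) * (X ^ 2 + 1) ^ k * X ^ (n - k)

theorem det_homog {n : ℕ} (Cm : Matrix (Fin n) (Fin n) F) :
    ((X ^ 2 + 1 : F[X]) • (1 : Matrix (Fin n) (Fin n) F[X]) - (X : F[X]) • Cm.map C).det =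
      psi n Cm.charpoly := by
  apply RatFunc.algebraMap_injective F
  rw [RingHom.map_det]
  obtain ⟨x, hx⟩ : ∃ x : RatFunc F, x = algebraMap F[X] (RatFunc F) X := ⟨_, rfl⟩
  have hx0 : x ≠ 0 := by
    rw [hx, RatFunc.algebraMap_X]
    exact RatFunc.X_ne_zero
  obtain ⟨w, hw⟩ : ∃ w : RatFunc F, w = (x ^ 2 + 1) / x := ⟨_, rfl⟩
  have hmap : (algebraMap F[X] (RatFunc F)).mapMatrix
      ((X ^ 2 + 1 : F[X]) • (1 : Matrix (Fin n) (Fin n) F[X]) - (X : F[X]) • Cm.map C) =
      x • (Matrix.scalar (Fin n) w - Cm.map (algebraMap F (RatFunc F))) := by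
    ext i j
    simp only [RingHom.mapMatrix_apply, Matrix.map_apply, Matrix.sub_apply, Matrix.smul_apply,
      Matrix.one_apply, smul_eq_mul, map_sub, map_mul, map_add, map_pow, map_one, ← hx,
      Matrix.scalar_apply, Matrix.diagonal_apply]
    have h1 : (algebraMap F[X] (RatFunc F)) (C (Cm i j)) = algebraMap F (RatFunc F) (Cm i j) := by
      rw [← Polynomial.algebraMap_eq, ← IsScalarTower.algebraMap_apply]
    rw [h1]
    by_cases hij : i = j
    · rw [if_pos hij, if_pos hij, hw]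
      simp only [map_one]
      field_simp
    · rw [if_neg hij, if_neg hij]
      simp only [map_zero]
      ring
  rw [hmap, Matrix.det_smul, ← Matrix.eval_charpoly, Matrix.charpoly_map, Fintype.card_fin,
    eval_map, eval₂_eq_sum_range, Matrix.charpoly_natDegree_eq_dim, Fintype.card_fin, psi,
    map_sum, Finset.mul_sum]
  apply Finset.sum_congr rfl
  intro k hk
  have hk' : k ≤ n := by
    have := Finset.mem_range.mp hk
    omega
  rw [map_mul, map_mul, map_pow, map_pow, map_add, map_pow, map_one, ← hx, hw,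
    ← Polynomial.algebraMap_eq, ← IsScalarTower.algebraMap_apply]
  have h2 : x ^ n = x ^ (n - k) * x ^ k := by rw [← pow_add]; congr 1; omega
  rw [h2, div_pow]
  field_simp

/-- For the matrix of multiplication by the generator in a power basis there is an invertible
symmetric matrix `H` with `H * C` symmetric. -/
theorem exists_hankel {S : Type*} [CommRing S] [Algebra F S] (pb : PowerBasis F S) :
    ∃ H : Matrix (Fin pb.dim) (Fin pb.dim) F, Hᵀ = H ∧ IsUnit H ∧
      H * Algebra.leftMulMatrix pb.basis pb.gen = (Algebra.leftMulMatrix pb.basis pb.gen)ᵀ * H := by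
  classical
  by_cases hd : pb.dim = 0
  · have : IsEmpty (Fin pb.dim) := by
      rw [hd]
      infer_instance
    exact ⟨1, Matrix.transpose_one, isUnit_one, by ext i j; exact isEmptyElim i⟩
  obtain ⟨μ, hμ⟩ : ∃ μ : S →ₗ[F] F, μ = pb.basis.coord ⟨pb.dim - 1, by omega⟩ := ⟨_, rfl⟩
  have hμb : ∀ j : Fin pb.dim, μ (pb.basis j) = if (j : ℕ) = pb.dim - 1 then 1 else 0 := by
    intro j
    rw [hμ, Module.Basis.coord_apply, Module.Basis.repr_self, Finsupp.single_apply]
    by_cases hj : (j : ℕ) = pb.dim - 1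
    · rw [if_pos hj, if_pos (Fin.ext hj)]
    · rw [if_neg hj, if_neg (fun h => hj (congrArg Fin.val h))]
  obtain ⟨H, hH⟩ : ∃ H : Matrix (Fin pb.dim) (Fin pb.dim) F,
      ∀ i j, H i j = μ (pb.basis i * pb.basis j) := ⟨Matrix.of fun i j => μ (pb.basis i * pb.basis j),
    fun i j => rfl⟩
  refine ⟨H, ?_, ?_, ?_⟩
  · ext i j
    rw [Matrix.transpose_apply, hH, hH, mul_comm]
  · rw [← Matrix.mulVec_injective_iff_isUnit]
    have hlin : ∀ v w : Fin pb.dim → F, H *ᵥ (v - w) = H *ᵥ v - H *ᵥ w := fun v w =>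
      Matrix.mulVec_sub H v w
    intro v w hvw
    have hz : H *ᵥ (v - w) = 0 := by rw [hlin, hvw, sub_self]
    by_contra hne
    have hne' : v - w ≠ 0 := sub_ne_zero.mpr hne
    obtain ⟨u, hu⟩ : ∃ u, u = v - w := ⟨_, rfl⟩
    rw [← hu] at hz hne'
    have hex : ∃ j : Fin pb.dim, u j ≠ 0 := by
      by_contra hcon
      push Not at hcon
      exact hne' (funext hcon)
    obtain ⟨j₀, hj₀, hmax⟩ : ∃ j₀ : Fin pb.dim, u j₀ ≠ 0 ∧ ∀ j, u j ≠ 0 → j ≤ j₀ := by
      obtain ⟨j₀, hj₀, hmax⟩ := Finset.exists_max_image (Finset.univ.filter fun j => u j ≠ 0)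
        (fun j => j) (by
          obtain ⟨j, hj⟩ := hex
          exact ⟨j, by simp [hj]⟩)
      refine ⟨j₀, (Finset.mem_filter.mp hj₀).2, fun j hj => hmax j (by simp [hj])⟩
    have hi : pb.dim - 1 - (j₀ : ℕ) < pb.dim := by omega
    have h1 := congrFun hz ⟨pb.dim - 1 - (j₀ : ℕ), hi⟩
    rw [Matrix.mulVec, dotProduct, Pi.zero_apply] at h1
    rw [Finset.sum_eq_single j₀] at h1
    · rw [hH, pb.basis_eq_pow, pb.basis_eq_pow, ← pow_add] at h1
      have h2 : pb.gen ^ (pb.dim - 1 - (j₀ : ℕ) + (j₀ : ℕ)) =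
          pb.basis ⟨pb.dim - 1, by omega⟩ := by
        rw [pb.basis_eq_pow]
        congr 1
        show pb.dim - 1 - (j₀ : ℕ) + (j₀ : ℕ) = pb.dim - 1
        have := j₀.2
        omega
      rw [h2, hμb, if_pos rfl, one_mul] at h1
      exact hj₀ h1
    · intro j _ hj
      by_cases huj : u j = 0
      · rw [huj, mul_zero]
      · have hle := hmax j huj
        have hlt : (j : ℕ) < (j₀ : ℕ) := lt_of_le_of_ne hle (fun h => hj (Fin.ext h))
        rw [hH, pb.basis_eq_pow, pb.basis_eq_pow, ← pow_add]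
        have h2 : pb.gen ^ (pb.dim - 1 - (j₀ : ℕ) + (j : ℕ)) =
            pb.basis ⟨pb.dim - 1 - (j₀ : ℕ) + (j : ℕ), by omega⟩ := by
          rw [pb.basis_eq_pow]
        rw [h2, hμb, if_neg (by
          show ¬ (pb.dim - 1 - (j₀ : ℕ) + (j : ℕ) = pb.dim - 1)
          omega), zero_mul]
    · intro h
      exact absurd (Finset.mem_univ j₀) h
  · ext i j
    rw [Matrix.mul_apply, Matrix.mul_apply]
    have e1 : ∑ k, H i k * Algebra.leftMulMatrix pb.basis pb.gen k j =
        μ (pb.basis i * (pb.gen * pb.basis j)) := by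
      conv_rhs => rw [← pb.basis.sum_repr (pb.gen * pb.basis j), Finset.mul_sum, map_sum]
      apply Finset.sum_congr rfl
      intro k _
      rw [Algebra.leftMulMatrix_eq_repr_mul, hH, mul_smul_comm, map_smul, smul_eq_mul, mul_comm]
    have e2 : ∑ k, (Algebra.leftMulMatrix pb.basis pb.gen)ᵀ i k * H k j =
        μ ((pb.gen * pb.basis i) * pb.basis j) := by
      conv_rhs => rw [← pb.basis.sum_repr (pb.gen * pb.basis i), Finset.sum_mul, map_sum]
      apply Finset.sum_congr rfl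
      intro k _
      rw [Matrix.transpose_apply, Algebra.leftMulMatrix_eq_repr_mul, hH, smul_mul_assoc, map_smul,
        smul_eq_mul]
    rw [e1, e2]
    congr 1
    ring

theorem eq_of_bilin {n : Type*} [Fintype n] [DecidableEq n] (G₁ G₂ : Matrix n n F)
    (h : ∀ u v : n → F, u ⬝ᵥ (G₁ *ᵥ v) = u ⬝ᵥ (G₂ *ᵥ v)) : G₁ = G₂ := by
  ext i j
  have h1 := h (Pi.single i 1) (Pi.single j 1)
  simpa using h1

theorem det_block {d : ℕ} (A D : Matrix (Fin d) (Fin d) F[X]) :
    (Matrix.fromBlocks A (1 : Matrix (Fin d) (Fin d) F[X]) (-1) D).det = (1 + D * A).det := by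
  have e1 : Matrix.fromBlocks A (1 : Matrix (Fin d) (Fin d) F[X]) (-1) D *
      Matrix.fromBlocks (1 : Matrix (Fin d) (Fin d) F[X]) 0 (-A) 1 =
      Matrix.fromBlocks (0 : Matrix (Fin d) (Fin d) F[X]) 1 (-1 - D * A) D := by
    rw [Matrix.fromBlocks_multiply]
    congr 1 <;> simp [sub_eq_add_neg]
  have e2 : Matrix.fromBlocks (0 : Matrix (Fin d) (Fin d) F[X]) 1 (-1 - D * A) D *
      Matrix.fromBlocks (1 : Matrix (Fin d) (Fin d) F[X]) 0 1 1 =
      Matrix.fromBlocks (1 : Matrix (Fin d) (Fin d) F[X]) 1 (-1 - D * A + D) D := by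
    rw [Matrix.fromBlocks_multiply]
    congr 1 <;> simp
  have d1 : (Matrix.fromBlocks (1 : Matrix (Fin d) (Fin d) F[X]) 0 (-A) 1).det = 1 := by
    rw [Matrix.det_fromBlocks_zero₁₂]
    simp
  have d2 : (Matrix.fromBlocks (1 : Matrix (Fin d) (Fin d) F[X]) 0
      (1 : Matrix (Fin d) (Fin d) F[X]) 1).det = 1 := by
    rw [Matrix.det_fromBlocks_zero₁₂]
    simp
  have h3 := congrArg Matrix.det e1
  have h4 := congrArg Matrix.det e2
  rw [Matrix.det_mul, d1, mul_one] at h3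
  rw [Matrix.det_mul, d2, mul_one, Matrix.det_fromBlocks_one₁₁] at h4
  rw [h3, h4]
  congr 1
  rw [Matrix.mul_one]
  abel

theorem exists_symp {d : ℕ} (Cm H : Matrix (Fin d) (Fin d) F) (hHt : Hᵀ = H) (hHu : IsUnit H)
    (hHC : H * Cm = Cmᵀ * H) :
    ∃ M : Matrix (Fin d ⊕ Fin d) (Fin d ⊕ Fin d) F, M ∈ Matrix.symplecticGroup (Fin d) F ∧
      M.charpoly = psi d Cm.charpoly := by
  classical
  obtain ⟨H', hHH'⟩ := hHu.exists_right_inv
  have hH'H : H' * H = 1 := mul_eq_one_comm.mp hHH'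
  obtain ⟨Ω, hΩ⟩ : ∃ Ω : Matrix (Fin d ⊕ Fin d) (Fin d ⊕ Fin d) F,
      Ω = Matrix.fromBlocks 0 H (-H) 0 := ⟨_, rfl⟩
  obtain ⟨M₀, hM₀⟩ : ∃ M₀ : Matrix (Fin d ⊕ Fin d) (Fin d ⊕ Fin d) F,
      M₀ = Matrix.fromBlocks 0 (-1) 1 Cm := ⟨_, rfl⟩
  have hinv : M₀ᵀ * Ω * M₀ = Ω := by
    rw [hM₀, hΩ, Matrix.fromBlocks_transpose, Matrix.fromBlocks_multiply,
      Matrix.fromBlocks_multiply]
    congr 1 <;> simp [hHC]
  have hΩalt : ∀ v : Fin d ⊕ Fin d → F, v ⬝ᵥ (Ω *ᵥ v) = 0 := by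
    intro v
    have h1 : (v ∘ Sum.inr) ⬝ᵥ (H *ᵥ (v ∘ Sum.inl)) = (v ∘ Sum.inl) ⬝ᵥ (H *ᵥ (v ∘ Sum.inr)) := by
      rw [Matrix.dotProduct_mulVec, ← Matrix.mulVec_transpose, hHt, dotProduct_comm]
    rw [hΩ, Matrix.fromBlocks_mulVec]
    simp only [dotProduct, Fintype.sum_sum_type, Sum.elim_inl, Sum.elim_inr, Matrix.zero_mulVec,
      zero_add, add_zero, Matrix.neg_mulVec, Pi.neg_apply, mul_neg, Finset.sum_neg_distrib]
    simp only [dotProduct, Function.comp_apply] at h1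
    rw [h1]
    ring
  have hΩu : IsUnit Ω := by
    refine IsUnit.of_mul_eq_one (Matrix.fromBlocks 0 (-H') H' 0) ?_
    rw [hΩ, Matrix.fromBlocks_multiply]
    simp [hHH', Matrix.fromBlocks_one]
  obtain ⟨c, hc⟩ := Cfsg.Agent.Lib.Helper40.SympConj.alt_iso (Matrix.toBilin' Ω)
    (Matrix.toBilin' (Matrix.J (Fin d) F))
    (by intro v; rw [Matrix.toBilin'_apply']; exact hΩalt v)
    (by intro v; rw [Matrix.toBilin'_apply']; exact Cfsg.Agent.Lib.Helper40.SympConj.J_alt v)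
    (by
      intro u hu
      have h1 : u ᵥ* Ω = 0 := by
        apply dotProduct_eq_zero
        intro w
        rw [← Matrix.dotProduct_mulVec]
        have h2 := hu w
        rw [Matrix.toBilin'_apply'] at h2
        exact h2
      obtain ⟨Ω', hΩ'⟩ := hΩu.exists_right_inv
      have h3 := congrArg (fun w => w ᵥ* Ω') h1
      simp only [Matrix.vecMul_vecMul, hΩ', Matrix.vecMul_one, Matrix.zero_vecMul] at h3
      exact h3)
    (by
      intro u hu
      apply Cfsg.Agent.Lib.Helper40.SympConj.eq_zero_of_J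
      intro w
      have h2 := hu w
      rw [Matrix.toBilin'_apply'] at h2
      exact h2)
  obtain ⟨P, hP⟩ : ∃ P : Matrix (Fin d ⊕ Fin d) (Fin d ⊕ Fin d) F,
      P = LinearMap.toMatrix' (c : (Fin d ⊕ Fin d → F) →ₗ[F] (Fin d ⊕ Fin d → F)) := ⟨_, rfl⟩
  obtain ⟨Q, hQ⟩ : ∃ Q : Matrix (Fin d ⊕ Fin d) (Fin d ⊕ Fin d) F,
      Q = LinearMap.toMatrix' (c.symm : (Fin d ⊕ Fin d → F) →ₗ[F] (Fin d ⊕ Fin d → F)) := ⟨_, rfl⟩
  have hPQ : P * Q = 1 := by
    rw [hP, hQ, ← LinearMap.toMatrix'_comp]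
    simp
  have hQP : Q * P = 1 := mul_eq_one_comm.mp hPQ
  have hcu : ∀ w, c w = P *ᵥ w := by
    intro w
    rw [hP, LinearMap.toMatrix'_mulVec]
    rfl
  have hJ : Matrix.J (Fin d) F = Pᵀ * Ω * P := by
    apply eq_of_bilin
    intro u v
    have h1 := hc u v
    rw [Matrix.toBilin'_apply', Matrix.toBilin'_apply'] at h1
    rw [h1, hcu, hcu, ← Matrix.mulVec_mulVec, ← Matrix.mulVec_mulVec,
      Matrix.dotProduct_mulVec u Pᵀ, Matrix.vecMul_transpose]
  refine ⟨Q * M₀ * P, ?_, ?_⟩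
  · rw [SymplecticGroup.mem_iff', hJ]
    have hQtPt : Qᵀ * Pᵀ = 1 := by rw [← Matrix.transpose_mul, hPQ, Matrix.transpose_one]
    calc (Q * M₀ * P)ᵀ * (Pᵀ * Ω * P) * (Q * M₀ * P)
        = Pᵀ * M₀ᵀ * (Qᵀ * Pᵀ) * Ω * (P * Q) * M₀ * P := by
          simp only [Matrix.transpose_mul, Matrix.mul_assoc]
      _ = Pᵀ * (M₀ᵀ * Ω * M₀) * P := by
          rw [hQtPt, hPQ]
          simp only [Matrix.mul_one, Matrix.mul_assoc]
      _ = Pᵀ * Ω * P := by rw [hinv]
  · have h1 : (Q * M₀ * P).charpoly = M₀.charpoly := by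
      rw [Matrix.mul_assoc, Matrix.charpoly_mul_comm, Matrix.mul_assoc, hPQ, Matrix.mul_one]
    have hcm : Matrix.charmatrix M₀ = Matrix.fromBlocks ((X : F[X]) • 1) 1 (-1)
        ((X : F[X]) • 1 - Cm.map C) := by
      rw [hM₀]
      ext (i | i) (j | j) <;>
        simp [Matrix.charmatrix_apply, Matrix.diagonal_apply, Matrix.one_apply, apply_ite]
    rw [h1, ← det_homog, Matrix.charpoly, hcm, det_block]
    congr 1
    rw [Matrix.mul_smul, Matrix.mul_one, smul_sub, smul_smul, add_smul, one_smul, pow_two]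
    abel

theorem exists_symp_charpoly (h : F[X]) (hm : h.Monic) :
    ∃ M : Matrix (Fin h.natDegree ⊕ Fin h.natDegree) (Fin h.natDegree ⊕ Fin h.natDegree) F,
      M ∈ Matrix.symplecticGroup (Fin h.natDegree) F ∧ M.charpoly = psi h.natDegree h := by
  have hne : h ≠ 0 := hm.ne_zero
  obtain ⟨H, h1, h2, h3⟩ := exists_hankel (AdjoinRoot.powerBasis hne)
  obtain ⟨M, hM, hc⟩ := exists_symp _ H h1 h2 h3
  rw [charpoly_leftMulMatrix, AdjoinRoot.minpoly_powerBasis_gen_of_monic hm hne] at hc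
  exact ⟨M, hM, hc⟩

/-- `psi` is injective on monic polynomials of degree `n`. -/
theorem psi_inj (n : ℕ) (h h' : F[X]) (hd : h.natDegree = n) (hd' : h'.natDegree = n)
    (hpsi : psi n h = psi n h') : h = h' := by
  by_contra hne
  obtain ⟨g, hg⟩ : ∃ g, g = h - h' := ⟨_, rfl⟩
  have hg0 : g ≠ 0 := by
    rw [hg]
    exact sub_ne_zero.mpr hne
  have hsum : ∑ k ∈ Finset.range (n + 1), C (g.coeff k) * (X ^ 2 + 1) ^ k * X ^ (n - k) = 0 := by
    have h1 : psi n h - psi n h' = 0 := sub_eq_zero.mpr hpsi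
    rw [psi, psi, ← Finset.sum_sub_distrib] at h1
    rw [← h1]
    apply Finset.sum_congr rfl
    intro k _
    rw [hg, coeff_sub, map_sub]
    ring
  have hd_le : g.natDegree ≤ n := by
    rw [hg]
    exact (natDegree_sub_le _ _).trans (by rw [hd, hd']; simp)
  have hc := congrArg (fun P => P.coeff (n - g.natDegree)) hsum
  simp only [finsetSum_coeff, coeff_zero] at hc
  rw [Finset.sum_eq_single g.natDegree] at hc
  · rw [mul_assoc, coeff_C_mul, coeff_mul_X_pow', if_pos le_rfl, Nat.sub_self,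
      coeff_zero_eq_eval_zero, eval_pow, eval_add, eval_pow, eval_X, eval_one] at hc
    simp only [ne_eq, OfNat.ofNat_ne_zero, not_false_eq_true, zero_pow, zero_add, one_pow,
      mul_one] at hc
    exact hg0 (leadingCoeff_eq_zero.mp hc)
  · intro k hk hkd
    rw [mul_assoc, coeff_C_mul, coeff_mul_X_pow']
    by_cases hlt : k < g.natDegree
    · rw [if_neg (by have := Finset.mem_range.mp hk; omega), mul_zero]
    · rw [coeff_eq_zero_of_natDegree_lt (by omega), zero_mul]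
  · intro hnot
    exact absurd (Finset.mem_range.mpr (by omega)) hnot

theorem charpoly_reverse {n : ℕ} (A : Matrix (Fin n ⊕ Fin n) (Fin n ⊕ Fin n) F)
    (hA : A ∈ Matrix.symplecticGroup (Fin n) F) : A.charpoly.reverse = A.charpoly := by
  classical
  rw [Matrix.reverse_charpoly]
  obtain ⟨B, hB⟩ : ∃ B, B = (-Matrix.J (Fin n) F) * Aᵀ * Matrix.J (Fin n) F := ⟨_, rfl⟩
  have hBA : B * A = 1 := by
    rw [hB, Matrix.mul_assoc, Matrix.mul_assoc, ← Matrix.mul_assoc Aᵀ,
      SymplecticGroup.mem_iff'.mp hA]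
    exact Cfsg.Agent.Lib.Helper40.SympConj.neg_J_mul_J
  have hAB : A * B = 1 := mul_eq_one_comm.mp hBA
  have hcB : B.charpoly = A.charpoly := by
    rw [hB, Matrix.mul_assoc, Matrix.charpoly_mul_comm, Matrix.mul_assoc,
      Cfsg.Agent.Lib.Helper40.SympConj.J_mul_neg_J, Matrix.mul_one, Matrix.charpoly_transpose]
  rw [← hcB]
  unfold Matrix.charpolyRev Matrix.charpoly Matrix.charmatrix
  have h1 : (1 - (X : F[X]) • A.map C) = (A.map C) *
      -(Matrix.scalar (Fin n ⊕ Fin n) (X : F[X]) - (C : F →+* F[X]).mapMatrix B) := by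
    have h2 : A.map C * (C : F →+* F[X]).mapMatrix B = 1 := by
      rw [← RingHom.mapMatrix_apply, ← map_mul, hAB, map_one]
    rw [neg_sub, Matrix.mul_sub, h2]
    congr 1
    rw [Matrix.scalar_apply, ← Matrix.smul_one_eq_diagonal, Matrix.mul_smul, Matrix.mul_one]
  rw [h1, Matrix.det_mul, Matrix.det_neg, Fintype.card_sum, Fintype.card_fin, ← two_mul, pow_mul,
    neg_one_sq, one_pow, one_mul]
  have hdet : (A.map C).det = 1 := by
    rw [← RingHom.mapMatrix_apply, ← RingHom.map_det, SymplecticGroup.det_eq_one hA, map_one]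
  rw [hdet, one_mul]

theorem coeff_symm {n : ℕ} (A : Matrix (Fin n ⊕ Fin n) (Fin n ⊕ Fin n) F)
    (hA : A ∈ Matrix.symplecticGroup (Fin n) F) (i : ℕ) (hi : i ≤ 2 * n) :
    A.charpoly.coeff (2 * n - i) = A.charpoly.coeff i := by
  have h1 : A.charpoly.reverse.coeff i = A.charpoly.coeff i := by rw [charpoly_reverse A hA]
  rw [coeff_reverse, Matrix.charpoly_natDegree_eq_dim, Fintype.card_sum, Fintype.card_fin,
    ← two_mul, revAt_le hi] at h1
  exact h1

theorem charpoly_eq_of_coeff {n : ℕ} (A B : Matrix (Fin n ⊕ Fin n) (Fin n ⊕ Fin n) F)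
    (hA : A ∈ Matrix.symplecticGroup (Fin n) F) (hB : B ∈ Matrix.symplecticGroup (Fin n) F)
    (h : ∀ i : Fin n, A.charpoly.coeff (i + 1) = B.charpoly.coeff (i + 1)) :
    A.charpoly = B.charpoly := by
  have hdeg : ∀ M : Matrix (Fin n ⊕ Fin n) (Fin n ⊕ Fin n) F, M.charpoly.natDegree = 2 * n := by
    intro M
    rw [Matrix.charpoly_natDegree_eq_dim, Fintype.card_sum, Fintype.card_fin, two_mul]
  have key : ∀ j, 1 ≤ j → j ≤ n → A.charpoly.coeff j = B.charpoly.coeff j := by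
    intro j h1 h2
    have h3 := h ⟨j - 1, by omega⟩
    have h4 : j - 1 + 1 = j := by omega
    simp only [h4] at h3
    exact h3
  have h2n : A.charpoly.coeff (2 * n) = B.charpoly.coeff (2 * n) := by
    have hA1 := (Matrix.charpoly_monic A).coeff_natDegree
    have hB1 := (Matrix.charpoly_monic B).coeff_natDegree
    rw [hdeg] at hA1 hB1
    rw [hA1, hB1]
  ext j
  by_cases hj : 2 * n < j
  · rw [coeff_eq_zero_of_natDegree_lt (by rw [hdeg]; exact hj),
      coeff_eq_zero_of_natDegree_lt (by rw [hdeg]; exact hj)]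
  · by_cases hj0 : j = 0
    · subst hj0
      rw [← coeff_symm A hA 0 (by omega), ← coeff_symm B hB 0 (by omega)]
      exact h2n
    by_cases hjn : j ≤ n
    · exact key j (by omega) hjn
    · by_cases hj2 : j = 2 * n
      · rw [hj2]
        exact h2n
      · have e : 2 * n - (2 * n - j) = j := by omega
        rw [← e, coeff_symm A hA (2 * n - j) (by omega), coeff_symm B hB (2 * n - j) (by omega)]
        exact key _ (by omega) (by omega)

theorem exists_pprime [Fintype F] (p : ℕ) [Fact p.Prime] [CharP F p] {n : ℕ}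
    (M : Matrix.symplecticGroup (Fin n) F) :
    ∃ g : Matrix.symplecticGroup (Fin n) F, (orderOf g).Coprime p ∧
      (g : Matrix (Fin n ⊕ Fin n) (Fin n ⊕ Fin n) F).charpoly =
        (M : Matrix (Fin n ⊕ Fin n) (Fin n ⊕ Fin n) F).charpoly := by
  classical
  have hpp : p.Prime := Fact.out
  obtain ⟨e, N', hN', hN⟩ := Nat.exists_eq_pow_mul_and_not_dvd (orderOf_pos M).ne' p hpp.ne_one
  obtain ⟨f, -, hf⟩ := FiniteField.card F p
  refine ⟨M ^ (Fintype.card F ^ e), ?_, ?_⟩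
  · have h1 : (M ^ (Fintype.card F ^ e)) ^ N' = 1 := by
      rw [← pow_mul]
      apply orderOf_dvd_iff_pow_eq_one.mp
      rw [hN]
      exact Nat.mul_dvd_mul (pow_dvd_pow_of_dvd (by rw [hf]; exact dvd_pow_self p f.ne_zero) e)
        dvd_rfl
    have h2 := orderOf_dvd_of_pow_eq_one h1
    exact Nat.Coprime.coprime_dvd_left h2 ((Nat.Prime.coprime_iff_not_dvd hpp).mpr hN').symm
  · have h3 : ∀ k : ℕ, ((M : Matrix (Fin n ⊕ Fin n) (Fin n ⊕ Fin n) F) ^
        (Fintype.card F ^ k)).charpoly =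
        (M : Matrix (Fin n ⊕ Fin n) (Fin n ⊕ Fin n) F).charpoly := by
      intro k
      induction k with
      | zero => simp
      | succ k ih => rw [pow_succ, pow_mul, FiniteField.Matrix.charpoly_pow_card, ih]
    rw [← h3 e]
    rfl

theorem card_monic_deg [Fintype F] (n : ℕ) :
    Nat.card {h : F[X] // h.Monic ∧ h.natDegree = n} = Fintype.card F ^ n := by
  rw [Nat.card_congr ((monicEquivDegreeLT n).trans (degreeLTEquiv F n).toEquiv),
    Nat.card_eq_fintype_card, Fintype.card_fun, Fintype.card_fin]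

theorem exists_symp_coeffs [Fintype F] (n : ℕ) (a : Fin n → F) :
    ∃ M : Matrix (Fin n ⊕ Fin n) (Fin n ⊕ Fin n) F, M ∈ Matrix.symplecticGroup (Fin n) F ∧
      ∀ i : Fin n, M.charpoly.coeff (i + 1) = a i := by
  classical
  have hex : ∀ h : {h : F[X] // h.Monic ∧ h.natDegree = n},
      ∃ M : Matrix (Fin n ⊕ Fin n) (Fin n ⊕ Fin n) F, M ∈ Matrix.symplecticGroup (Fin n) F ∧
        M.charpoly = psi n h.1 := by
    rintro ⟨h, hm, hd⟩
    subst hd
    exact exists_symp_charpoly h hm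
  obtain ⟨Θ, hΘ⟩ : ∃ Θ : {h : F[X] // h.Monic ∧ h.natDegree = n} → (Fin n → F),
      ∀ h i, Θ h i = (psi n h.1).coeff (i + 1) :=
    ⟨fun h i => (psi n h.1).coeff (i + 1), fun _ _ => rfl⟩
  have hinj : Function.Injective Θ := by
    intro h h' hh
    obtain ⟨M, hM, hc⟩ := hex h
    obtain ⟨M', hM', hc'⟩ := hex h'
    apply Subtype.ext
    apply psi_inj n h.1 h'.1 h.2.2 h'.2.2
    rw [← hc, ← hc']
    apply charpoly_eq_of_coeff M M' hM hM'
    intro i
    rw [hc, hc', ← hΘ, ← hΘ, hh]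
  have hfin : Finite {h : F[X] // h.Monic ∧ h.natDegree = n} :=
    Nat.finite_of_card_ne_zero (by
      rw [card_monic_deg]
      exact pow_ne_zero _ Fintype.card_ne_zero)
  have hsurj : Function.Surjective Θ :=
    (Function.Injective.bijective_of_nat_card_le hinj (by
      rw [card_monic_deg, Nat.card_eq_fintype_card, Fintype.card_fun, Fintype.card_fin])).2
  obtain ⟨h, hh⟩ := hsurj a
  obtain ⟨M, hM, hc⟩ := hex h
  exact ⟨M, hM, fun i => by rw [hc, ← hΘ, hh]⟩

end Cfsg.Agent.Lib.Helper40.SpReal
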