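import Mathlib
import Cfsg.Agent.S0752

set_option autoImplicit false

namespace Cfsg.Agent.Lib.Helper40.AltRank

open Matrix

variable {F : Type*} [Field F]

/-- A space carrying a non-degenerate alternating form has even dimension. -/
theorem even_finrank_of_alt {U : Type*} [AddCommGroup U] [Module F U] [FiniteDimensional F U]
    (B : LinearMap.BilinForm F U) (h : B.IsAlt) (nd : ∀ u : U, (∀ v : U, B u v = 0) → u = 0) :
    Even (Module.finrank F U) := by
  classical
  obtain ⟨m₁, k₁, b₁, h11, h12, h13, h14⟩ := Cfsg.Agent.S0752.result B h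
  have hk₁ : k₁ = 0 := by
    by_contra hk
    obtain ⟨k, rfl⟩ := Nat.exists_eq_succ_of_ne_zero hk
    exact b₁.ne_zero (Sum.inr 0) (nd _ (fun v => h14 0 v))
  subst hk₁
  have e1 := Module.finrank_eq_card_basis b₁
  simp only [Fintype.card_sum, Fintype.card_fin] at e1
  exact ⟨m₁, by omega⟩

/-- A matrix `G` with `v ⬝ G v = 0` for all `v` (an alternating matrix) has even rank. -/
theorem even_rank_of_alt {n : Type*} [Fintype n] [DecidableEq n] (G : Matrix n n F)
    (h : ∀ v : n → F, v ⬝ᵥ (G *ᵥ v) = 0) : Even G.rank := by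
  classical
  have hskew : ∀ u v : n → F, u ⬝ᵥ (G *ᵥ v) = -(v ⬝ᵥ (G *ᵥ u)) := by
    intro u v
    have h1 := h (u + v)
    rw [Matrix.mulVec_add, add_dotProduct, dotProduct_add, dotProduct_add, h u, h v] at h1
    linear_combination h1
  obtain ⟨C, hC⟩ := Submodule.exists_isCompl (LinearMap.ker G.mulVecLin)
  have hdim : Module.finrank F C = G.rank := by
    have h1 := Submodule.finrank_add_eq_of_isCompl hC
    have h2 := LinearMap.finrank_range_add_finrank_ker G.mulVecLin
    rw [Matrix.rank]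
    omega
  rw [← hdim]
  obtain ⟨B, hB⟩ : ∃ B : LinearMap.BilinForm F C, ∀ x y : C, B x y = x.1 ⬝ᵥ (G *ᵥ y.1) :=
    ⟨(Matrix.toBilin' G).restrict C, fun x y => by
      show Matrix.toBilin' G x.1 y.1 = _
      rw [Matrix.toBilin'_apply']⟩
  apply even_finrank_of_alt B
  · intro x
    rw [hB]
    exact h x.1
  · intro u hu
    have h1 : ∀ v : n → F, u.1 ⬝ᵥ (G *ᵥ v) = 0 := by
      intro v
      have hv : v ∈ LinearMap.ker G.mulVecLin ⊔ C := by
        rw [hC.sup_eq_top]
        exact Submodule.mem_top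
      obtain ⟨k, hk, c, hc, rfl⟩ := Submodule.mem_sup.mp hv
      have hk' : G *ᵥ k = 0 := hk
      have h2 := hu ⟨c, hc⟩
      rw [hB] at h2
      rw [Matrix.mulVec_add, dotProduct_add, hk', dotProduct_zero, zero_add]
      exact h2
    have h3 : G *ᵥ u.1 = 0 := by
      apply dotProduct_eq_zero
      intro w
      rw [dotProduct_comm, hskew, h1 w, neg_zero]
    have h4 : u.1 ∈ LinearMap.ker G.mulVecLin ⊓ C := ⟨h3, u.2⟩
    rw [hC.inf_eq_bot] at h4
    exact Subtype.ext h4

end Cfsg.Agent.Lib.Helper40.AltRank
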