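import Mathlib
import Cfsg.Agent.Lib.Helper23.HNStmt

set_option autoImplicit false

/-!
# S1438 / FUSM (helper40, spare seat): the deduction of `FusM` from the statement of S1374,
taken as a hypothesis (so that this file has no BG closure).
-/

namespace Cfsg.Agent.Lib.Helper40.HNFusmPure

universe u

open Cfsg Cfsg.Agent.Lib.Helper23.HNStmt

/-- The statement of S1374, at universe `u`. -/
def St1374 : Prop :=
  ∀ {G : Type u} [Group G] [Finite G] (_ : Cfsg.IsMinSimpleOddOrder G)
    (M : Subgroup G) (_ : IsCoatom M) (x : G) (_ : x ∈ Cfsg.sigmaCore M) (_ : x ≠ 1),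
    (Nat.card ↥(M ⊓ Subgroup.centralizer ({x} : Set G))).Coprime ((M ⊓ Subgroup.centralizer ({x} : Set G)).relIndex (Subgroup.centralizer ({x} : Set G))) ∧
      ∃ R : Subgroup G, Subgroup.centralizer ({x} : Set G) ≤ Subgroup.normalizer (R : Set G) ∧ Cfsg.IsComplIn (M ⊓ Subgroup.centralizer ({x} : Set G)) R (Subgroup.centralizer ({x} : Set G)) ∧
        ∀ g : G, x ∈ M.map (MulAut.conj g).toMonoidHom → ∃! r : G, r ∈ R ∧ M.map (MulAut.conj r).toMonoidHom = M.map (MulAut.conj g).toMonoidHom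

theorem fusm_of (h74 : St1374.{u}) : FusM.{u} := by
  intro G _ _ hG M hM x hx g hg
  by_cases hx1 : x = 1
  · exact ⟨1, M.one_mem, by simp [hx1]⟩
  obtain ⟨-, R, -, hRc, hR⟩ := h74 hG M hM x hx hx1
  have hxm : x ∈ M.map (MulAut.conj g⁻¹).toMonoidHom := by
    rw [Subgroup.mem_map_equiv]
    simpa [MulAut.conj_symm_apply] using hg
  obtain ⟨r, ⟨hrR, hrM⟩, -⟩ := hR g⁻¹ hxm
  have hrC : r ∈ Subgroup.centralizer ({x} : Set G) := hRc.2.1 hrR
  have hrx : r * x = x * r := by
    have := Subgroup.mem_centralizer_iff.mp hrC x (Set.mem_singleton x)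
    exact this.symm
  -- `g * r` normalizes `M`
  have hnm : g * r ∈ Subgroup.normalizer (M : Set G) := by
    rw [Subgroup.mem_normalizer_iff]
    intro y
    have h1 : r * y * r⁻¹ ∈ M.map (MulAut.conj r).toMonoidHom ↔ y ∈ M := by
      rw [Subgroup.mem_map_equiv]
      simp [MulAut.conj_symm_apply, mul_assoc]
    have h2 : r * y * r⁻¹ ∈ M.map (MulAut.conj g⁻¹).toMonoidHom ↔
        g * r * y * (g * r)⁻¹ ∈ M := by
      rw [Subgroup.mem_map_equiv]
      simp [MulAut.conj_symm_apply, mul_assoc]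
    rw [← h2, ← hrM, h1]
  have hmM : g * r ∈ M := by
    by_contra hnot
    have hlt : M < Subgroup.normalizer (M : Set G) :=
      lt_of_le_of_ne Subgroup.le_normalizer (fun h => hnot (by rw [h]; exact hnm))
    have htop := hM.2 _ hlt
    have hnorm : M.Normal := Subgroup.normalizer_eq_top_iff.mp htop
    have : IsSimpleGroup G := hG.2.1
    rcases hnorm.eq_bot_or_eq_top with h1 | h1
    · rw [h1, Subgroup.mem_bot] at hg
      apply hx1
      have : x = g⁻¹ * (g * x * g⁻¹) * g := by group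
      rw [this, hg]; group
    · exact hM.1 h1
  refine ⟨g * r, hmM, ?_⟩
  have : g * r * x * (g * r)⁻¹ = g * (r * x) * r⁻¹ * g⁻¹ := by group
  rw [this, hrx]; group

end Cfsg.Agent.Lib.Helper40.HNFusmPure
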